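import Cfsg.Agent.Lib.RootSub.QuadPair3

/-! Components of a set of root subgroups and the decomposition of a quadratic pair. -/

set_option autoImplicit false

namespace CfsgLib.RootSub

open Cfsg Module
open scoped commutatorElement

section Generic

variable {G : Type*} [Group G] {S : Set (Subgroup G)} {A B C X : Subgroup G}

theorem conjBy_subgroupOf (A : Subgroup G) (g : X) :
    conjBy (A.subgroupOf X) g = (conjBy A (g : G)).subgroupOf X := by
  ext x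
  rw [mem_conjBy, Subgroup.mem_subgroupOf, Subgroup.mem_subgroupOf, mem_conjBy]
  rfl

theorem Comm.subgroupOf (h : Comm A B) : Comm (A.subgroupOf X) (B.subgroupOf X) :=
  fun _ ha _ hb => Subtype.ext (h _ ha _ hb)

theorem Cc.subgroupOf (h : Cc A B C) (hA : A ≤ X) (hB : B ≤ X) :
    Cc (A.subgroupOf X) (B.subgroupOf X) (C.subgroupOf X) := by
  have hC : C ≤ X := h.le_sup.trans (sup_le hA hB)
  refine ⟨Subgroup.map_injective X.subtype_injective ?_, fun e => h.ne ?_, h.cA.subgroupOf, h.cB.subgroupOf,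
    fun a ha ha1 c hc => ?_, fun b hb hb1 c hc => ?_⟩
  · rw [Subgroup.map_commutator, map_subtype_subgroupOf hA, map_subtype_subgroupOf hB,
      map_subtype_subgroupOf hC, h.eq]
  · rw [← map_subtype_subgroupOf hC, e, Subgroup.map_bot]
  · obtain ⟨b, hb, e⟩ := h.surjB a ha (fun e => ha1 (Subtype.ext e)) c hc
    exact ⟨⟨b, hB hb⟩, hb, Subtype.ext e⟩
  · obtain ⟨a, ha, e⟩ := h.surjA b hb (fun e => hb1 (Subtype.ext e)) c hc
    exact ⟨⟨a, hA ha⟩, ha, Subtype.ext e⟩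

theorem RS.subgroupOf (hS : RS S) :
    IsRootSubgroupSet ((fun A : Subgroup G => A.subgroupOf (⨆ B ∈ S, B)) '' S) := by
  have hc : ∀ A ∈ (fun A : Subgroup G => A.subgroupOf (⨆ B ∈ S, B)) '' S, ∀ g,
      conjBy A g ∈ (fun A : Subgroup G => A.subgroupOf (⨆ B ∈ S, B)) '' S := by
    rintro _ ⟨A, hA, rfl⟩ g
    exact ⟨_, hS.conj_gen hA g.2, (conjBy_subgroupOf A g).symm⟩
  refine RS.isRootSubgroupSet ⟨?_, ?_, fun A hA _ _ b _ => hc A hA b, ?_⟩ ?_ hc
  · rintro _ ⟨A, hA, rfl⟩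
    exact (hS.comm A hA).subgroupOf
  · rintro _ ⟨A, hA, rfl⟩ e
    refine hS.ne_bot A hA ?_
    rw [← map_subtype_subgroupOf (le_gen hA)]
    exact (congrArg _ e).trans (Subgroup.map_bot _)
  · rintro _ ⟨A, hA, rfl⟩ _ ⟨B, hB, rfl⟩
    rcases hS.pair A hA B hB with h | h | ⟨C, hC, h⟩
    · exact Or.inl h.subgroupOf
    · exact Or.inr (Or.inl (r1_subgroupOf h (le_gen hA) (le_gen hB)))
    · exact Or.inr (Or.inr ⟨_, ⟨C, hC, rfl⟩, h.subgroupOf (le_gen hA) (le_gen hB)⟩)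
  · refine Subgroup.map_injective (Subgroup.subtype_injective _) (le_antisymm (Subgroup.map_mono le_top) ?_)
    rw [← MonoidHom.range_eq_map, Subgroup.range_subtype]
    refine iSup₂_le fun A hA => ?_
    rw [← map_subtype_subgroupOf (le_gen hA)]
    exact Subgroup.map_mono (le_gen ⟨A, hA, rfl⟩)

/-- The component of `A`. -/
abbrev cmp (S : Set (Subgroup G)) (A : Subgroup G) : Set (Subgroup G) := componentOf (FAdj S) S A

/-- The group generated by the component of `A`. -/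
abbrev cmpG (S : Set (Subgroup G)) (A : Subgroup G) : Subgroup G := ⨆ B ∈ cmp S A, B

theorem mem_cmp_self (hA : A ∈ S) : A ∈ cmp S A := ⟨hA, .refl⟩

theorem cmp_eq (h : B ∈ cmp S A) : cmp S B = cmp S A :=
  Set.ext fun _ => ⟨fun h' => ⟨h'.1, h.2.trans h'.2⟩, fun h' => ⟨h'.1, (rch_symm h.2).trans h'.2⟩⟩

theorem cmp_r1 (hB : B ∈ cmp S A) (hC : C ∈ S) (h : IsRankOnePair B C) : C ∈ cmp S A :=
  ⟨hC, hB.2.tail ⟨hB.1, hC, h⟩⟩

theorem cmpG_le : cmpG S A ≤ ⨆ B ∈ S, B := iSup₂_le fun _ hB => le_gen hB.1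

theorem RS.cmp_cc (hS : RS S) (hn : ∀ A ∈ S, NI S A) (hB : B ∈ cmp S A) {D : Subgroup G} (hC : C ∈ S)
    (hD : D ∈ S) (h : Cc B C D) : D ∈ cmp S A :=
  ⟨hD, hB.2.trans (hS.rch_of_line hB.1 (hn _ hB.1) (hn _ hD) (hS.cc_line hB.1 hC hD (hn _ hB.1) h))⟩

theorem RS.cmp_conj (hS : RS S) (hn : ∀ A ∈ S, NI S A) (hB : B ∈ cmp S A) {g : G}
    (hg : g ∈ (⨆ B ∈ S, B : Subgroup G)) : conjBy B g ∈ cmp S A :=
  ⟨hS.conj_gen hB.1 hg, hB.2.trans (hS.rch_conj hg B hB.1 (hn _ hB.1))⟩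

theorem RS.cmp (hS : RS S) (hn : ∀ A ∈ S, NI S A) : RS (cmp S A) :=
  ⟨fun B hB => hS.comm B hB.1, fun B hB => hS.ne_bot B hB.1,
    fun _ hB _ hC _ hb => hS.cmp_conj hn hB (le_gen hC.1 hb), fun B hB C hC =>
      (hS.pair B hB.1 C hC.1).imp_right (Or.imp_right fun ⟨D, hD, h⟩ => ⟨D, hS.cmp_cc hn hB hC.1 hD h, h⟩)⟩

theorem RS.comm_of_not_mem (hS : RS S) (hn : ∀ A ∈ S, NI S A) (hB : B ∈ RootSub.cmp S A) (hC : C ∈ S)
    (h : C ∉ RootSub.cmp S A) : Comm B C := by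
  rcases hS.pair B hB.1 C hC with e | e | ⟨D, hD, e⟩
  · exact e
  · exact absurd (cmp_r1 hB hC e) h
  · refine absurd ?_ h
    rw [← cmp_eq (hS.cmp_cc hn hB hC hD e), cmp_eq (hS.cmp_cc hn (mem_cmp_self hC) hB.1 hD e.symm)]
    exact mem_cmp_self hC

theorem comm_gen {T : Set (Subgroup G)} (h : ∀ A ∈ T, Comm A B) : Comm (⨆ A ∈ T, A) B :=
  comm_iff_le_centralizer.2 (iSup₂_le fun A hA => comm_iff_le_centralizer.1 (h A hA))

theorem RS.comm_cmpG (hS : RS S) (hn : ∀ A ∈ S, NI S A) (h : RootSub.cmp S A ≠ RootSub.cmp S B) :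
    Comm (cmpG S A) (cmpG S B) :=
  comm_gen fun _ hC => (comm_gen fun _ hD => (hS.comm_of_not_mem hn hC hD.1 fun e =>
    h ((cmp_eq e).symm.trans (cmp_eq hD))).symm).symm

theorem cmp_exists_conj (hA : A ∈ S) (hB : B ∈ cmp S A) : ∃ g ∈ cmpG S A, B = conjBy A g := by
  obtain ⟨-, h⟩ := hB
  induction h with
  | refl => exact ⟨1, Subgroup.one_mem _, (conjBy_one A).symm⟩
  | tail h0 h ih =>
    obtain ⟨g, hg, rfl⟩ := ih
    obtain ⟨x, hx, e, -⟩ := r1_swap h.2.2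
    exact ⟨x * g, Subgroup.mul_mem _ (sup_le (le_gen (S := cmp S A) ⟨h.1, h0⟩)
      (le_gen (S := cmp S A) ⟨h.2.1, h0.tail h⟩) hx) hg,
      by rw [← e, conjBy_conjBy]⟩

theorem RS.cmp_class (hS : RS S) (hn : ∀ A ∈ S, NI S A) (hA : A ∈ S) :
    IsRootSubgroupClass ((fun B : Subgroup G => B.subgroupOf (cmpG S A)) '' RootSub.cmp S A) := by
  refine ⟨(hS.cmp hn).subgroupOf, ⟨_, A, mem_cmp_self hA, rfl⟩, ?_⟩
  rintro _ ⟨B, hB, rfl⟩ _ ⟨C, hC, rfl⟩
  obtain ⟨g, hg, rfl⟩ := cmp_exists_conj hA hB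
  obtain ⟨g', hg', rfl⟩ := cmp_exists_conj hA hC
  refine ⟨⟨g' * g⁻¹, Subgroup.mul_mem _ hg' (Subgroup.inv_mem _ hg)⟩, ?_⟩
  rw [conjBy_subgroupOf, conjBy_conjBy, inv_mul_cancel_right]

theorem conjBy_gen_of' {W : Set (Subgroup G)} (h : ∀ A ∈ W, ∀ g ∈ X, conjBy A g ∈ W) {g : G}
    (hg : g ∈ X) : conjBy (⨆ A ∈ W, A) g = ⨆ A ∈ W, A := by
  refine conjBy_eq_of_le (E := X) (fun e he => ?_) hg
  rw [conjBy_iSup]
  refine iSup_le fun A => ?_
  rw [conjBy_iSup]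
  exact iSup_le fun hA => le_gen (h A hA e he)

theorem quasisimple_of_sub (hp : ⁅X, X⁆ = X) (hz : X ≠ ⊥)
    (h : ∀ N ≤ X, (∀ g ∈ X, conjBy N g = N) → N = X ∨ Comm N X) : IsQuasisimple X := by
  refine quasisimple_of_normal (Subgroup.isPerfect_iff.2 hp) (fun e => hz ?_) fun N hN => ?_
  · rw [← hp, comm_iff]
    intro a ha b hb
    exact congrArg Subtype.val (Subgroup.mem_center_iff.1 (e ▸ Subgroup.mem_top (⟨b, hb⟩ : X)) ⟨a, ha⟩)
  · refine (h (N.map X.subtype) (Subgroup.map_subtype_le N) fun g hg => ?_).imp (fun e => ?_)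
      fun e n hn => Subgroup.mem_center_iff.2 fun g => Subtype.ext (e _ ⟨n, hn, rfl⟩ _ g.2).symm
    · have := map_conjBy X.subtype N ⟨g, hg⟩
      rw [conjBy_eq_self_iff.2 (Subgroup.normalizer_eq_top N ▸ Subgroup.mem_top _)] at this
      exact this.symm
    · refine Subgroup.map_injective X.subtype_injective ?_
      rw [e, ← MonoidHom.range_eq_map, Subgroup.range_subtype]

theorem conjBy_le_sup {N : Subgroup G} (hA : ∀ a ∈ A, conjBy N a = N) {n : G} (hn : n ∈ N) :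
    conjBy A n ≤ N ⊔ A := conjBy_le_of_mem le_sup_right (Subgroup.mem_sup_left hn)

theorem commutator_sup_le {N Y : Subgroup G} (hA : ∀ a ∈ A, conjBy N a = N) (hc : Comm A A)
    (h : Y ≤ N ⊔ A) : ⁅Y, Y⁆ ≤ N := by
  have : (N.subgroupOf (N ⊔ A)).Normal := by
    rw [Subgroup.normal_subgroupOf_iff_le_normalizer le_sup_left]
    exact sup_le Subgroup.le_normalizer fun a ha => conjBy_eq_self_iff.1 (hA a ha)
  have h1 := commutator_le_of_le_sup (A := A.subgroupOf (N ⊔ A)) (X := Y.subgroupOf (N ⊔ A)) this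
    hc.subgroupOf (by rw [← Subgroup.subgroupOf_sup le_sup_left le_sup_right, Subgroup.subgroupOf_self]; exact le_top)
  have h2 := Subgroup.map_mono (f := (N ⊔ A).subtype) h1
  rwa [Subgroup.map_commutator, map_subtype_subgroupOf h, map_subtype_subgroupOf le_sup_left] at h2

theorem exists_fin_enum {α : Type*} {T : Set α} (h : T.Finite) :
    ∃ (r : ℕ) (f : Fin r → α), Function.Injective f ∧ Set.range f = T := by
  obtain ⟨r, f, e⟩ := h.fin_embedding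
  exact ⟨r, f, f.injective, e⟩

end Generic

variable {k : Type*} [Field k] {M : Type*} [AddCommGroup M] [Module k M] [FiniteDimensional k M]

local notation "GLM" => LinearMap.GeneralLinearGroup k M
local notation "EM" => M →ₗ[k] M
local notation "Sg" => quadraticRootSubgroups

variable {G : Subgroup (LinearMap.GeneralLinearGroup k M)} {α β η : M →ₗ[k] M}
  {A B : Subgroup (LinearMap.GeneralLinearGroup k M)}

theorem NU.r1_data (hG : NU G) (h2 : (2 : k) ≠ 0) (h3 : Nat.card k ≠ 3) (hA : A ∈ Sg G) (hB : B ∈ Sg G)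
    (h : IsRankOnePair A B) : ⁅A ⊔ B, A ⊔ B⁆ = A ⊔ B ∧
      ∃ A₀ B₀ : Subgroup GLM, A₀ ≤ A ∧ B₀ ≤ B ∧ IsPSL2PairOver k A₀ B₀ := by
  obtain ⟨a, ha, rfl⟩ := mem_Sig.1 hA
  obtain ⟨b, hb, rfl⟩ := mem_Sig.1 hB
  have := opp_of_r1 hG h2 h3 ha hb h
  exact ⟨this.perfect h2 h3 ha hb, this.psl2 h2 h3 ha hb⟩

theorem NU.unip_of_not_r1 (h2 : (2 : k) ≠ 0) (h3 : Nat.card k ≠ 3) (hA : A ∈ Sg G)
    (hB : B ∈ Sg G) (h : ¬ IsRankOnePair A B) : IsUnipotentOn (A ⊔ B) := by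
  obtain ⟨a, ha, rfl⟩ := mem_Sig.1 hA
  obtain ⟨b, hb, rfl⟩ := mem_Sig.1 hB
  exact ((opp_or_np h2 h3 ha hb).resolve_left fun e => h (e.r1 h2 h3 ha hb)).unip ha.toQF hb.toQF

theorem NU.finite_cmp (hG : NU G) (h2 : (2 : k) ≠ 0) (h3 : Nat.card k ≠ 3) :
    (cmp (Sg G) '' Sg G).Finite := by
  have hn := fun A => hG.ni h2 h3 (A := A)
  have : ∀ P : cmp (Sg G) '' Sg G, ∃ a, Mn G a ∧ P = cmp (Sg G) (EG G a) := by
    rintro ⟨_, A, hA, rfl⟩
    obtain ⟨a, ha, rfl⟩ := mem_Sig.1 hA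
    exact ⟨a, ha, rfl⟩
  choose f hf hf' using this
  refine (LinearIndependent.finite (R := k) (f := f) (linearIndependent_iff'.2 fun s c e P hP => ?_) :)
  obtain ⟨b, hb, ho⟩ := hG.exists_opp h2 h3 (hf P)
  have h1 := congrArg (fun x => b * x * b) e
  simp only [Finset.mul_sum, Finset.sum_mul, mul_zero, zero_mul, mul_smul_comm, smul_mul_assoc] at h1
  rw [Finset.sum_eq_single P (fun Q _ hQ => ?_) fun h => absurd hP h] at h1
  · exact (smul_eq_zero.1 h1).resolve_right (ho.symm.ne hb.ne)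
  · have h4 := (hG.rs h2 h3).comm_of_not_mem hn (cmp_r1 (mem_cmp_self (hf P).mem_Sig) hb.mem_Sig
      (ho.r1 h2 h3 (hf P) hb)) (hf Q).mem_Sig fun e => hQ (Subtype.ext (by rw [hf', hf', cmp_eq e]))
    rw [comm_EG_iff.1 h4 _ hb.mem_eS _ (hf Q).mem_eS, mul_assoc, hb.sq, mul_zero, smul_zero]

theorem NU.quasisimple (hG : NU G) (h2 : (2 : k) ≠ 0) (h3 : Nat.card k ≠ 3) (hA : A ∈ Sg G) :
    IsQuasisimple (cmpG (Sg G) A) := by
  have hn := fun A => hG.ni h2 h3 (A := A)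
  have hS := hG.rs h2 h3
  have hX : NU (cmpG (Sg G) A) :=
    (hG.of_normal (iSup₂_le fun _ => Sig_le) fun g => conjBy_gen_of fun _ h _ => conj_Sig h).of_normal
      cmpG_le fun g => conjBy_gen_of fun _ h _ => hS.cmp_conj hn h
  refine quasisimple_of_sub (le_antisymm (Subgroup.commutator_le_self _) (iSup₂_le fun B hB => ?_))
    (fun e => hS.ne_bot A hA (le_bot_iff.1 (e ▸ le_gen (mem_cmp_self hA)))) fun N hN hN' => ?_
  · obtain ⟨C, hC, h⟩ := hn B hB.1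
    have := sup_le (le_gen hB) (le_gen (cmp_r1 hB hC h))
    exact le_sup_left.trans ((hG.r1_data h2 h3 hB.1 hC h).1.ge.trans (Subgroup.commutator_mono this this))
  by_cases h : ∃ B ∈ cmp (Sg G) A, ∃ n ∈ N, IsRankOnePair B (conjBy B n)
  · obtain ⟨B, hB, n, hnN, h⟩ := h
    have hB' : ∀ b ∈ B, conjBy N b = N := fun b hb => hN' b (le_gen hB hb)
    have h4 := commutator_sup_le hB' (hS.comm B hB.1) (sup_le le_sup_right (conjBy_le_sup hB' hnN))
    rw [(hG.r1_data h2 h3 hB.1 (hS.conj_gen hB.1 (cmpG_le (hN hnN))) h).1] at h4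
    refine Or.inl (le_antisymm hN (iSup₂_le fun C hC => ?_))
    obtain ⟨g, hg, rfl⟩ := cmp_exists_conj hB.1 (cmp_eq hB ▸ hC)
    rw [← hN' g (by rwa [cmpG, cmp_eq hB] at hg)]
    exact conjBy_le_conjBy_iff.2 (le_sup_left.trans h4)
  push Not at h
  have h4 : ∀ B ∈ cmp (Sg G) A, IsUnipotentOn ⁅N, B⁆ := fun B hB => by
    refine unip_mono (unip_iSup (W := {C | ∃ n ∈ N, C = conjBy B n}) ?_ ?_)
      (Subgroup.commutator_le.2 fun n hn b hb => ?_)
    · rintro _ ⟨n, hn, rfl⟩ _ ⟨n', hn', rfl⟩ x hx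
      obtain ⟨b, hb, rfl⟩ := mem_conjBy'.1 hx
      refine ⟨n' * (b * (n'⁻¹ * n) * b⁻¹), N.mul_mem hn' (hN' b (le_gen hB hb) ▸ conj_mem_conjBy
        (N.mul_mem (N.inv_mem hn') hn) b), ?_⟩
      rw [conjBy_conjBy, ← conjBy_mul_of_right (n' * (b * (n'⁻¹ * n) * b⁻¹)) (conjBy_of_mem hb)]
      congr 1; group
    · rintro _ ⟨n, hn, rfl⟩ _ ⟨n', hn', rfl⟩
      refine NU.unip_of_not_r1 h2 h3 (hS.conj_gen hB.1 (cmpG_le (hN hn)))
        (hS.conj_gen hB.1 (cmpG_le (hN hn'))) fun e => h B hB _ (N.mul_mem (N.inv_mem hn) hn') ?_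
      have := r1_conj e n⁻¹
      rwa [conjBy_inv_conjBy, conjBy_conjBy] at this
    · exact Subgroup.mul_mem _ (le_gen (S := {C | ∃ n ∈ N, C = conjBy B n}) ⟨n, hn, rfl⟩
        (conj_mem_conjBy hb n)) (le_gen (S := {C | ∃ n ∈ N, C = conjBy B n})
        ⟨1, N.one_mem, (conjBy_one B).symm⟩ (B.inv_mem hb))
  have h5 : ∀ B ∈ cmp (Sg G) A, ⁅N, B⁆ ≤ N := fun B hB => Subgroup.commutator_le.2 fun n hn b hb => by
    have := N.mul_mem hn (hN' b (le_gen hB hb) ▸ conj_mem_conjBy (N.inv_mem hn) b)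
    rwa [← mul_assoc, ← mul_assoc] at this
  have h6 : ∀ B : Subgroup GLM, ∀ n ∈ N, conjBy ⁅N, B⁆ n = ⁅N, B⁆ := fun B n hn =>
    conjBy_eq_self_iff.2 (Subgroup.normalizer_commutator_ge_left N B hn)
  have hc : ∀ C ∈ {C | ∃ B ∈ cmp (Sg G) A, C = ⁅N, B⁆}, ∀ g ∈ cmpG (Sg G) A,
      conjBy C g ∈ {C | ∃ B ∈ cmp (Sg G) A, C = ⁅N, B⁆} := by
    rintro _ ⟨B, hB, rfl⟩ g hg
    exact ⟨_, hS.cmp_conj hn hB (cmpG_le hg), by rw [conjBy_commutator, hN' g hg]⟩
  have h7 := hX _ (iSup₂_le ?_) (fun g => conjBy_gen_of hc) (unip_iSup ?_ ?_)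
  · exact Or.inr (comm_gen fun B hB => (comm_iff.1 (le_bot_iff.1 (h7 ▸ le_gen ⟨B, hB, rfl⟩))).symm).symm
  · rintro _ ⟨B, hB, rfl⟩
    exact (h5 B hB).trans hN
  · rintro C hC _ ⟨B, hB, rfl⟩ x hx
    exact hc C hC x (hN (h5 B hB hx))
  · rintro _ ⟨B, hB, rfl⟩ _ ⟨C, hC, rfl⟩
    exact unip_sup_of_norm (h4 B hB) (h4 C hC) fun x hx => h6 B x (h5 C hC hx)

theorem NU.decomp (hG : NU G) (h2 : (2 : k) ≠ 0) (h3 : Nat.card k ≠ 3) (hη : QF G η) :
    qu η hη.sq ∈ Subgroup.centralizer ((⨆ A ∈ Sg G, A : Subgroup GLM) : Set GLM) ∨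
    ∃ (η₁ η₀ : EM) (h1 : Mn G η₁) (h0 : QF G η₀), rk η₀ < rk η ∧ η₀ * η₁ = 0 ∧
      qu η hη.sq = qu η₀ h0.sq * qu η₁ h1.sq := by
  by_cases h : ∀ a, Mn G a → a * η * a = 0
  · left
    intro x hx
    refine comm_gen (B := Subgroup.zpowers (qu η hη.sq)) (fun A hA => ?_) x hx _ (Subgroup.mem_zpowers _)
    obtain ⟨α, ha, rfl⟩ := mem_Sig.1 hA
    refine (comm_iff_le_centralizer.2 (Subgroup.zpowers_le.2 fun y hy => ?_)).symm
    obtain ⟨a, ha', rfl⟩ := mem_EG'.1 hy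
    by_cases h0 : a = 0
    · exact qu_comm.2 (by simp [h0])
    · exact qu_comm.2 (hG.lemC h2 h3 hη h (ha.of_eS ha' h0).1)
  right
  push Not at h
  obtain ⟨α, ha, h⟩ := h
  obtain ⟨a, ha', h0, e⟩ := ha.exists_partner h2 h3 hη h
  obtain ⟨h4, h5⟩ := qf_split ha'.1 hη e
  have s1 : η * (η * a * η) = 0 := by rw [← mul_assoc, ← mul_assoc, hη.sq]; simp
  have s3 : (η - η * a * η) * (η * a * η) = 0 := by rw [sub_mul, s1, h5.sq, sub_zero]
  refine ⟨_, _, (ha.of_eS ha' h0).1.of_le h5 (fun e' => h0 ?_)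
    ((rk_mul_le_left _ _).trans (rk_mul_le_right _ _)), h4, ?_, s3, Units.ext ?_⟩
  · rw [← e, ← e, show a * η * a * η * (a * η * a) = a * (η * a * η) * (a * η * a) by noncomm_ring, e']
    simp
  · refine Submodule.finrank_lt_finrank_of_lt (lt_of_le_of_ne ?_ fun e' => h0 ?_)
    · rw [mul_assoc, ← mul_one η, mul_assoc, one_mul, ← mul_sub]
      exact LinearMap.range_comp_le_range _ _
    · have : a * (η - η * a * η) = 0 := by
        rw [mul_sub, ← mul_assoc, ← mul_assoc, e, sub_self]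
      rw [← e, mul_eq_zero_of_le (e'.ge.trans (range_le_ker_of_mul this)), zero_mul]
  · rw [Units.val_mul, qu_val, qu_val, qu_val, ← sub_eq_zero, ← neg_eq_zero, ← s3]; noncomm_ring

theorem qf_induction {p : ∀ η : EM, QF G η → Prop}
    (h : ∀ η hη, (∀ η₀ h₀, rk η₀ < rk η → p η₀ h₀) → p η hη) (η : EM) (hη : QF G η) : p η hη := by
  induction e : rk η using Nat.strong_induction_on generalizing η with
  | _ n ih => exact h η hη fun η₀ h₀ hlt => ih _ (e ▸ hlt) η₀ h₀ rfl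

omit [FiniteDimensional k M] in
theorem qu_sub {σ : GLM} (h : ((σ : EM) - 1) * ((σ : EM) - 1) = 0) : qu _ h = σ := Units.ext (by simp)

omit [FiniteDimensional k M] in
theorem closure_le_of_qu (hgen : Subgroup.closure (quadraticElements G) = G) {H : Subgroup GLM}
    (h : ∀ η (hη : QF G η), qu η hη.sq ∈ H) : G ≤ H := by
  conv_lhs => rw [← hgen]
  refine (Subgroup.closure_le _).2 fun σ hσ => ?_
  exact qu_sub (mem_quadraticElements.1 hσ).1.sq ▸ h _ (mem_quadraticElements.1 hσ).1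

theorem NU.cocentral (hG : NU G) (h2 : (2 : k) ≠ 0) (h3 : Nat.card k ≠ 3)
    (hgen : Subgroup.closure (quadraticElements G) = G) : (⨆ A ∈ Sg G, A) ⊔
      (G ⊓ Subgroup.centralizer ((⨆ A ∈ Sg G, A : Subgroup GLM) : Set GLM)) = G := by
  refine le_antisymm (sup_le (iSup₂_le fun _ => Sig_le) inf_le_left) (closure_le_of_qu hgen ?_)
  refine qf_induction fun η hη ih => ?_
  rcases hG.decomp h2 h3 hη with h | ⟨a, b, ha, hb, h4, -, e⟩
  · exact Subgroup.mem_sup_right ⟨hη.qu_mem, h⟩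
  · exact e ▸ Subgroup.mul_mem _ (ih b hb h4) (Subgroup.mem_sup_left (le_gen ha.mem_Sig (qu_mem_EG ha.mem_eS)))

theorem NU.cmpG_normal (hG : NU G) (h2 : (2 : k) ≠ 0) (h3 : Nat.card k ≠ 3)
    (hgen : Subgroup.closure (quadraticElements G) = G) {g : GLM} (hg : g ∈ G) :
    conjBy (cmpG (Sg G) A) g = cmpG (Sg G) A := by
  rw [← hG.cocentral h2 h3 hgen] at hg
  refine conjBy_eq_of_mem_sup (fun g => conjBy_gen_of fun _ h _ => (hG.rs h2 h3).cmp_conj
    (fun A => hG.ni h2 h3) h) (fun g hg => conjBy_of_comm fun a ha => (hg.2 a (cmpG_le ha)).symm) g hg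

theorem quad_split (hG : IsIrreducibleFor (G ⊔ Subgroup.centralizer (G : Set GLM))) (h2 : (2 : k) ≠ 0)
    (h3 : Nat.card k ≠ 3) (hgen : Subgroup.closure (quadraticElements G) = G) (η : EM) (hη : QF G η) :
    qu η hη.sq ∈ Subgroup.centralizer ((⨆ A ∈ Sg G, A : Subgroup GLM) : Set GLM) ∨
      ∃ A ∈ Sg G, qu η hη.sq ∈ cmpG (Sg G) A := by
  have hN := nu_of_irr hG
  have hn := fun A => hN.ni h2 h3 (A := A)
  revert η
  refine qf_induction fun η hη ih => ?_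
  refine (hN.decomp h2 h3 hη).imp_right fun ⟨a, b, ha, hb, h4, h5, e⟩ => ⟨_, ha.mem_Sig, e ▸
    Subgroup.mul_mem _ ?_ (le_gen (mem_cmp_self ha.mem_Sig) (qu_mem_EG ha.mem_eS))⟩
  by_contra hcon
  have h6 : ∀ x ∈ cmpG (Sg G) (EG G a), x * qu b hb.sq = qu b hb.sq * x := by
    rcases ih b hb h4 with h | ⟨A, -, h⟩
    · exact fun x hx => h x (cmpG_le hx)
    · exact fun x hx => (hN.rs h2 h3).comm_cmpG hn (fun e => hcon (by rwa [cmpG, e])) x hx _ h
  have h7 : ∀ x ∈ cmpG (Sg G) (EG G a), b * (x : EM) = b := by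
    refine gen_induction (by simp) (fun B hB x hx => ?_) fun x y hx hy => by
      rw [Units.val_mul, ← mul_assoc, hx, hy]
    obtain ⟨g, hg, rfl⟩ := cmp_exists_conj ha.mem_Sig hB
    obtain ⟨y, hy, rfl⟩ := mem_conjBy'.1 hx
    have h8 : (g : EM) * b = b * g := by
      have := congrArg Units.val (h6 g hg)
      simpa [mul_add, add_mul] using this
    have h9 := eS_mul_left hy h5
    rw [mul_sub, mul_one, sub_eq_zero] at h9
    rw [Units.val_mul, Units.val_mul, ← mul_assoc, ← mul_assoc, ← h8, mul_assoc _ b, h9, h8, mul_assoc,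
      Units.mul_inv, mul_one]
  have h8 : ∀ g ∈ G ⊔ Subgroup.centralizer (G : Set GLM),
      conjBy (cmpG (Sg G) (EG G a)) g = cmpG (Sg G) (EG G a) :=
    conjBy_eq_of_mem_sup (fun g => hN.cmpG_normal h2 h3 hgen) fun g hg => conjBy_of_comm fun x hx =>
      (hg x ((cmpG_le.trans (iSup₂_le fun _ => Sig_le)) hx)).symm
  refine (hG.2 (commutatorSubmodule (cmpG (Sg G) (EG G a))) fun g hg w hw => ?_).elim (fun e => ha.ne ?_)
    fun e => hcon ?_
  · refine (iSup₂_le (f := fun x (_ : x ∈ cmpG (Sg G) (EG G a)) => LinearMap.range ((x : EM) - 1))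
      (a := (commutatorSubmodule (cmpG (Sg G) (EG G a))).comap (g : EM)) fun x hx => ?_) hw
    rintro _ ⟨v, rfl⟩
    refine (le_iSup₂_of_le _ (h8 g hg ▸ conj_mem_conjBy hx g) le_rfl : _ ≤ commutatorSubmodule _)
      ⟨(g : EM) v, ?_⟩
    rw [cj_coe, cj_apply, ← Module.End.mul_apply, mul_assoc, Units.inv_mul, mul_one]
    rfl
  · have := (le_iSup₂_of_le _ (le_gen (mem_cmp_self ha.mem_Sig) (qu_mem_EG ha.mem_eS)) le_rfl :
      _ ≤ commutatorSubmodule _).trans e.le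
    rwa [qu_val, add_sub_cancel_left, le_bot_iff, LinearMap.range_eq_bot] at this
  · have : commutatorSubmodule (cmpG (Sg G) (EG G a)) ≤ LinearMap.ker b := iSup₂_le fun x hx =>
      range_le_ker_of_mul (by rw [mul_sub, h7 x hx, mul_one, sub_self])
    rw [e, top_le_iff, LinearMap.ker_eq_top] at this
    rw [qu_eq_one.2 this]
    exact Subgroup.one_mem _

omit [FiniteDimensional k M] in
theorem exists_mn (hη : QF G η) (h0 : η ≠ 0) : ∃ α, Mn G α := by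
  obtain ⟨a, ha, h⟩ := exists_minimalFor_of_wellFoundedLT (fun a : EM => QF G a ∧ a ≠ 0) rk ⟨η, hη, h0⟩
  exact ⟨a, ha.1, ha.2, fun b hb hb0 => le_of_not_gt fun e => e.not_ge (h ⟨hb, hb0⟩ e.le)⟩

omit [FiniteDimensional k M] in
theorem EG_le_closure {H : Subgroup GLM} (h : EG G α ≤ H) :
    EG G α ≤ Subgroup.closure (quadraticElements G ∩ H) := fun x hx => by
  by_cases h1 : x = 1
  · exact h1 ▸ Subgroup.one_mem _
  · exact Subgroup.subset_closure ⟨mem_quadraticElements.2 ⟨hx.1, fun e => h1 (Units.ext (sub_eq_zero.1 e))⟩,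
      h hx⟩

theorem quad_dec (h2 : (2 : k) ≠ 0) (h3 : Nat.card k ≠ 3) (n : ℕ) : ∀ G : Subgroup GLM,
    finrank k (Submodule.span k {η | QF G η}) = n →
    IsIrreducibleFor (G ⊔ Subgroup.centralizer (G : Set GLM)) →
    Subgroup.closure (quadraticElements G) = G → ∃ T : Set (Subgroup GLM), T.Finite ∧
      (∀ X ∈ T, X ≤ G ∧ (∀ g ∈ G, conjBy X g = X) ∧ IsQuasisimple X ∧
        Subgroup.closure (quadraticElements G ∩ X) = X) ∧ (∀ X ∈ T, ∀ Y ∈ T, X ≠ Y → Comm X Y) ∧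
      ∀ σ ∈ quadraticElements G, ∃ X ∈ T, σ ∈ X := by
  induction n using Nat.strong_induction_on with
  | _ n ih =>
  intro G hn hG hgen
  by_cases h0 : ∃ α, Mn G α
  swap
  · exact ⟨∅, Set.finite_empty, by simp, by simp, fun σ hσ => absurd
      (exists_mn (mem_quadraticElements.1 hσ).1 (mem_quadraticElements.1 hσ).2) h0⟩
  obtain ⟨α, ha⟩ := h0
  have hN := nu_of_irr hG
  have hG0 : (⨆ A ∈ Sg G, A : Subgroup GLM) ≤ G := iSup₂_le fun _ => Sig_le
  set Z := Subgroup.centralizer ((⨆ A ∈ Sg G, A : Subgroup GLM) : Set GLM) with hZ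
  set C := Subgroup.closure (quadraticElements G ∩ Z) with hC
  have hCG : C ≤ G ⊓ Z := (Subgroup.closure_le _).2 fun σ hσ => ⟨hσ.1.1, hσ.2⟩
  have hQ : ∀ σ ∈ quadraticElements C, σ ∈ quadraticElements G := fun σ hσ =>
    mem_quadraticElements.2 ⟨(mem_quadraticElements.1 hσ).1.mono (hCG.trans inf_le_left),
      (mem_quadraticElements.1 hσ).2⟩
  have hQ' : ∀ η (hη : QF G η), qu η hη.sq ∈ Z → QF C η := fun η hη h => by
    refine ⟨hη.sq, fun t => ⟨qu _ (hη.smul t).sq, ?_, rfl⟩⟩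
    by_cases h1 : t • η = 0
    · rw [qu_eq_one.2 h1]; exact C.one_mem
    refine Subgroup.subset_closure ⟨mem_quadraticElements.2 (by simpa using ⟨hη.smul t, by simpa using h1⟩),
      fun x hx => Units.ext ?_⟩
    have := congrArg Units.val (h x hx)
    simp only [Units.val_mul, qu_val, mul_add, add_mul, mul_one, one_mul, add_right_inj] at this ⊢
    rw [mul_smul_comm, smul_mul_assoc, this]
  have hsup : G ≤ (⨆ A ∈ Sg G, A) ⊔ C := closure_le_of_qu hgen fun η hη => by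
    rcases quad_split hG h2 h3 hgen η hη with h | ⟨A, -, h⟩
    · exact Subgroup.mem_sup_right (hQ' η hη h).qu_mem
    · exact Subgroup.mem_sup_left (cmpG_le h)
  have hle : G ⊔ Subgroup.centralizer (G : Set GLM) ≤ C ⊔ Subgroup.centralizer (C : Set GLM) :=
    sup_le (hsup.trans (sup_le (fun x hx => Subgroup.mem_sup_right fun y hy => ((hCG hy).2 x hx).symm)
      le_sup_left)) (le_sup_of_le_right (Subgroup.centralizer_le (hCG.trans inf_le_left)))
  refine (ih _ ?_ C rfl ⟨hG.1, fun W hW => hG.2 W fun g hg => hW g (hle hg)⟩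
    (le_antisymm ((Subgroup.closure_le _).2 fun σ hσ => hσ.1) (Subgroup.closure_mono fun σ hσ =>
      mem_quadraticElements.2 ⟨hQ' _ (mem_quadraticElements.1 hσ.1).1 (by
        rw [qu_sub]; exact hσ.2), (mem_quadraticElements.1 hσ.1).2⟩))).elim fun T ⟨hT, h4, h5, h6⟩ => ?_
  swap
  · have h7 : ∀ X ∈ T, ∀ A, Comm (cmpG (Sg G) A) X := fun X hX A x hx y hy =>
      (hCG ((h4 X hX).1 hy)).2 x (cmpG_le hx)
    refine ⟨cmpG (Sg G) '' Sg G ∪ T, Set.Finite.union ?_ hT, ?_, ?_, fun σ hσ => ?_⟩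
    · have := (hN.finite_cmp h2 h3).image fun P => (⨆ B ∈ P, B : Subgroup GLM)
      rwa [Set.image_image] at this
    · rintro X (⟨A, hA, rfl⟩ | hX)
      · refine ⟨cmpG_le.trans hG0, fun g => hN.cmpG_normal h2 h3 hgen, hN.quasisimple h2 h3 hA,
          le_antisymm ((Subgroup.closure_le _).2 fun σ hσ => hσ.2) (iSup₂_le fun B hB => ?_)⟩
        obtain ⟨b, -, rfl⟩ := mem_Sig.1 hB.1
        exact EG_le_closure (le_gen hB)
      · obtain ⟨e1, e2, e3, e4⟩ := h4 X hX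
        refine ⟨e1.trans (hCG.trans inf_le_left), fun g hg => conjBy_eq_of_mem_sup (fun g hg =>
          conjBy_of_comm fun x hx => (hCG (e1 hx)).2 g hg) e2 g (hsup hg), e3,
          le_antisymm ((Subgroup.closure_le _).2 fun σ hσ => hσ.2) (e4.ge.trans
            (Subgroup.closure_mono fun σ hσ => ⟨hQ σ hσ.1, hσ.2⟩))⟩
    · rintro X (⟨A, -, rfl⟩ | hX) Y (⟨B, -, rfl⟩ | hY) hne
      · exact (hN.rs h2 h3).comm_cmpG (fun A => hN.ni h2 h3) fun e => hne (by rw [cmpG, e])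
      · exact h7 Y hY A
      · exact (h7 X hX B).symm
      · exact h5 X hX Y hY hne
    · obtain ⟨h8, h9⟩ := mem_quadraticElements.1 hσ
      have e := qu_sub h8.sq
      rcases quad_split hG h2 h3 hgen _ h8 with h | ⟨A, hA, h⟩
      · obtain ⟨X, hX, h⟩ := h6 σ (mem_quadraticElements.2 ⟨hQ' _ h8 h, h9⟩)
        exact ⟨X, Or.inr hX, h⟩
      · exact ⟨_, Or.inl ⟨A, hA, rfl⟩, e ▸ h⟩
  · rw [← hn]
    refine Submodule.finrank_lt_finrank_of_lt (lt_of_le_of_ne (Submodule.span_mono fun η hη =>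
      QF.mono hη (hCG.trans inf_le_left)) fun e => ?_)
    obtain ⟨b, hb, ho⟩ := hN.exists_opp h2 h3 ha
    have h8 : ∀ x ∈ Submodule.span k {η | QF C η}, b * x = x * b := fun x hx => by
      induction hx using Submodule.span_induction with
      | mem x hx => exact qu_comm.1 ((hCG (QF.qu_mem hx)).2 _ (le_gen hb.mem_Sig (qu_mem_EG hb.mem_eS)))
      | zero => simp
      | add x y _ _ hx hy => rw [mul_add, add_mul, hx, hy]
      | smul c x _ hx => rw [mul_smul_comm, smul_mul_assoc, hx]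
    exact ho.symm.ne hb.ne (by
      rw [h8 α (e ▸ Submodule.subset_span ha.toQF), mul_assoc, hb.sq, mul_zero])

end CfsgLib.RootSub
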