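import Cfsg.Agent.Lib.RootSub.Roots2

/-! Unipotent groups of linear maps: flags and the analogue of the Baer-Suzuki theorem. -/

set_option autoImplicit false

namespace CfsgLib.RootSub

open Cfsg
open scoped commutatorElement

variable {k : Type*} [Field k] {M : Type*} [AddCommGroup M] [Module k M]

local notation "GLM" => LinearMap.GeneralLinearGroup k M

/-- The elements shifting the flag `F` by `i` steps. -/
def flagGrp (F : ℕ → Submodule k M) (hF : Antitone F) (i : ℕ) : Subgroup GLM where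
  carrier := {g | ∀ j, ∀ v ∈ F j, (g : M →ₗ[k] M) v - v ∈ F (j + i) ∧
    ((g⁻¹ : GLM) : M →ₗ[k] M) v - v ∈ F (j + i)}
  one_mem' := fun j v _ => by simp
  inv_mem' := fun {g} hg j v hv => by rw [inv_inv]; exact (hg j v hv).symm
  mul_mem' := fun {g h} hg hh j v hv => by
    have key : ∀ a b : M →ₗ[k] M, (∀ v ∈ F j, a v - v ∈ F (j + i)) → (∀ v ∈ F j, b v - v ∈ F (j + i)) →
        (a * b) v - v ∈ F (j + i) := by
      intro a b ha hb
      have h1 : b v ∈ F j := by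
        have := (F j).add_mem (hF (Nat.le_add_right j i) (hb v hv)) hv
        rwa [sub_add_cancel] at this
      have := (F (j + i)).add_mem (ha _ h1) (hb v hv)
      rwa [sub_add_sub_cancel] at this
    refine ⟨key _ _ (fun v hv => (hg j v hv).1) fun v hv => (hh j v hv).1, ?_⟩
    rw [mul_inv_rev]
    exact key _ _ (fun v hv => (hh j v hv).2) fun v hv => (hg j v hv).2

variable {F : ℕ → Submodule k M} {hF : Antitone F}

theorem le_flagGrp {H : Subgroup GLM} {i : ℕ}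
    (h : ∀ g ∈ H, ∀ j, ∀ v ∈ F j, (g : M →ₗ[k] M) v - v ∈ F (j + i)) : H ≤ flagGrp F hF i :=
  fun g hg j v hv => ⟨h g hg j v hv, h _ (H.inv_mem hg) j v hv⟩

theorem flagGrp_map {i : ℕ} {g : GLM} (hg : g ∈ flagGrp F hF i) {j : ℕ} {v : M} (hv : v ∈ F j) :
    (g : M →ₗ[k] M) v ∈ F j := by
  have := (F j).add_mem (hF (Nat.le_add_right j i) (hg j v hv).1) hv
  rwa [sub_add_cancel] at this

theorem flagGrp_anti {i i' : ℕ} (h : i ≤ i') : flagGrp F hF i' ≤ flagGrp F hF i :=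
  le_flagGrp fun _ hg j v hv => hF (Nat.add_le_add_left h j) (hg j v hv).1

theorem flagGrp_comm {i : ℕ} {p x : GLM} (hp : p ∈ flagGrp F hF i) (hx : x ∈ flagGrp F hF 1) :
    ⁅p, x⁆ ∈ flagGrp F hF (i + 1) := by
  have key : ∀ j, ∀ w ∈ F j, (p : M →ₗ[k] M) ((x : M →ₗ[k] M) w) - (x : M →ₗ[k] M) ((p : M →ₗ[k] M) w) ∈
      F (j + (i + 1)) := by
    intro j w hw
    have h1 := (hp _ _ (hx j w hw).1).1
    have h2 := (hx _ _ (hp j w hw).1).1
    rw [show j + 1 + i = j + (i + 1) by omega] at h1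
    rw [show j + i + 1 = j + (i + 1) by omega] at h2
    have := (F _).sub_mem h1 h2
    convert this using 1
    simp only [map_sub]; abel
  intro j v hv
  constructor
  · have := key j _ (flagGrp_map ((flagGrp F hF i).inv_mem hp)
      (flagGrp_map ((flagGrp F hF 1).inv_mem hx) hv))
    convert this using 2 <;> simp only [← Module.End.mul_apply, ← Units.val_mul]
    · rw [commutatorElement_def, mul_assoc, mul_assoc]
    · simp
  · have := (F _).neg_mem (key j _ (flagGrp_map ((flagGrp F hF 1).inv_mem hx)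
      (flagGrp_map ((flagGrp F hF i).inv_mem hp) hv)))
    rw [neg_sub] at this
    rw [commutatorElement_inv]
    convert this using 2 <;> simp only [← Module.End.mul_apply, ← Units.val_mul]
    · rw [commutatorElement_def, mul_assoc, mul_assoc]
    · simp

theorem flagGrp_eq_bot {n : ℕ} (h : F n = ⊥) (h0 : F 0 = ⊤) : flagGrp F hF n = ⊥ := by
  rw [eq_bot_iff]
  intro g hg
  refine Subgroup.mem_bot.2 (Units.ext (LinearMap.ext fun v => ?_))
  have := (hg 0 v (h0 ▸ Submodule.mem_top)).1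
  rw [zero_add, h, Submodule.mem_bot, sub_eq_zero] at this
  exact this

/-- The span of the images of `V` under the members of `S`. -/
def img (S : Set (M →ₗ[k] M)) (V : Submodule k M) : Submodule k M := ⨆ s ∈ S, V.map s

theorem img_le {S : Set (M →ₗ[k] M)} {V W : Submodule k M} :
    img S V ≤ W ↔ ∀ s ∈ S, ∀ v ∈ V, s v ∈ W := by
  simp only [img, iSup₂_le_iff, Submodule.map_le_iff_le_comap]; rfl

theorem mem_img {S : Set (M →ₗ[k] M)} {V : Submodule k M} {s : M →ₗ[k] M} (hs : s ∈ S) {v : M}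
    (hv : v ∈ V) : s v ∈ img S V := img_le.1 le_rfl s hs v hv

theorem img_mono {S : Set (M →ₗ[k] M)} {V W : Submodule k M} (h : V ≤ W) : img S V ≤ img S W :=
  img_le.2 fun _ hs _ hv => mem_img hs (h hv)

/-- The iterated images. -/
def fl (S : Set (M →ₗ[k] M)) (V : Submodule k M) : ℕ → Submodule k M
  | 0 => V
  | n + 1 => img S (fl S V n)

theorem fl_anti (S : Set (M →ₗ[k] M)) : Antitone (fl S ⊤) := by
  refine antitone_nat_of_succ_le fun n => ?_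
  induction n with
  | zero => exact le_top
  | succ n ih => exact img_mono ih

theorem fl_mono (S : Set (M →ₗ[k] M)) {V W : Submodule k M} (h : V ≤ W) (n : ℕ) :
    fl S V n ≤ fl S W n := by
  induction n with
  | zero => exact h
  | succ n ih => exact img_mono ih

/-- The set of the differences `g - 1`, `g ∈ H`. -/
def dm (H : Subgroup GLM) : Set (M →ₗ[k] M) := {Z | ∃ g ∈ H, Z = (g : M →ₗ[k] M) - 1}

theorem unip_def {H : Subgroup GLM} : IsUnipotentOn H ↔ ∃ n : ℕ, ∀ l : List GLM, (∀ g ∈ l, g ∈ H) →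
    l.length = n → (l.map fun g : GLM => (g : M →ₗ[k] M) - 1).prod = 0 := by
  unfold IsUnipotentOn
  simp only [bind_pure_comp, List.map_eq_map, List.map_map, Function.comp_def]

theorem mem_img_dm {H : Subgroup GLM} {V : Submodule k M} {g : GLM} (hg : g ∈ H) {v : M}
    (hv : v ∈ V) : (g : M →ₗ[k] M) v - v ∈ img (dm H) V := mem_img (S := dm H) ⟨g, hg, rfl⟩ hv

theorem unip_iff_fl {H : Subgroup GLM} : IsUnipotentOn H ↔ ∃ n, fl (dm H) ⊤ n = ⊥ := by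
  rw [unip_def]
  refine exists_congr fun n => ⟨fun h => ?_, fun h l hl hn => ?_⟩
  · have key : ∀ n, ∀ Z : M →ₗ[k] M, (∀ l : List GLM, (∀ g ∈ l, g ∈ H) → l.length = n →
        Z * (l.map fun g : GLM => (g : M →ₗ[k] M) - 1).prod = 0) → fl (dm H) ⊤ n ≤ LinearMap.ker Z := by
      intro n
      induction n with
      | zero =>
        intro Z hZ
        have : Z = 0 := by simpa using hZ [] (by simp) rfl
        simp [this]
      | succ n ih =>
        intro Z hZ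
        refine img_le.2 ?_
        rintro _ ⟨g, hg, rfl⟩ v hv
        refine ih (Z * ((g : M →ₗ[k] M) - 1)) (fun l hl hn => ?_) hv
        have := hZ (g :: l) (by simpa [hg] using hl) (by simp [hn])
        rwa [List.map_cons, List.prod_cons, ← mul_assoc] at this
    rw [eq_bot_iff]
    exact key n 1 fun l hl hn => by rw [one_mul]; exact h l hl hn
  · have key : ∀ l : List GLM, (∀ g ∈ l, g ∈ H) → ∀ v,
        (l.map fun g : GLM => (g : M →ₗ[k] M) - 1).prod v ∈ fl (dm H) ⊤ l.length := by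
      intro l
      induction l with
      | nil => intro _ v; trivial
      | cons g l ih =>
        intro hl v
        rw [List.map_cons, List.prod_cons, Module.End.mul_apply]
        exact mem_img_dm (hl g (by simp)) (ih (fun x hx => hl x (by simp [hx])) v)
    ext v
    have := key l hl v
    rwa [hn, h] at this

theorem unip_iff_flag {H : Subgroup GLM} : IsUnipotentOn H ↔ ∃ (F : ℕ → Submodule k M)
    (hF : Antitone F) (n : ℕ), F 0 = ⊤ ∧ F n = ⊥ ∧ H ≤ flagGrp F hF 1 := by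
  rw [unip_iff_fl]
  constructor
  · rintro ⟨n, hn⟩
    exact ⟨_, fl_anti _, n, rfl, hn, le_flagGrp fun g hg j v hv => mem_img_dm hg hv⟩
  · rintro ⟨F, hF, n, h0, hn, h⟩
    have key : ∀ j, fl (dm H) ⊤ j ≤ F j := by
      intro j
      induction j with
      | zero => exact h0.ge
      | succ j ih =>
        refine img_le.2 ?_
        rintro _ ⟨g, hg, rfl⟩ v hv
        exact (h hg j v (ih hv)).1
    exact ⟨n, eq_bot_iff.2 (hn ▸ key n)⟩

theorem unip_mono {H K : Subgroup GLM} (h : IsUnipotentOn K) (hle : H ≤ K) : IsUnipotentOn H := by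
  obtain ⟨n, hn⟩ := h
  exact ⟨n, fun l hl => hn l fun g hg => hle (hl g hg)⟩

theorem unip_bot : IsUnipotentOn (⊥ : Subgroup GLM) := by
  refine unip_def.2 ⟨1, fun l hl hn => ?_⟩
  obtain ⟨g, rfl⟩ := List.length_eq_one_iff.1 hn
  simp [Subgroup.mem_bot.1 (hl g (by simp))]

theorem eq_bot_of_le_img {S : Set (M →ₗ[k] M)} {n : ℕ} (h : fl S ⊤ n = ⊥) {V : Submodule k M}
    (hV : V ≤ img S V) : V = ⊥ := by
  have key : ∀ j, V ≤ fl S ⊤ j := by
    intro j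
    induction j with
    | zero => exact le_top
    | succ j ih => exact hV.trans (img_mono ih)
  exact eq_bot_iff.2 (h ▸ key n)

theorem unip_exists_fixed {H : Subgroup GLM} (h : IsUnipotentOn H) (hM : ∃ m : M, m ≠ 0) :
    ∃ v : M, v ≠ 0 ∧ ∀ g ∈ H, (g : M →ₗ[k] M) v = v := by
  obtain ⟨F, hF, n, h0, hn, h⟩ := unip_iff_flag.1 h
  by_contra hcon
  push Not at hcon
  have key : ∀ j, F j = ⊥ → F 0 = ⊥ := by
    intro j
    induction j with
    | zero => exact id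
    | succ j ih =>
      refine fun hj => ih (eq_bot_iff.2 fun v hv => ?_)
      by_contra hv0
      obtain ⟨g, hg, hne⟩ := hcon v hv0
      have := (h hg j v hv).1
      rw [hj, Submodule.mem_bot, sub_eq_zero] at this
      exact hne this
  obtain ⟨m, hm⟩ := hM
  exact hm ((Submodule.mem_bot k).1 (key n hn ▸ h0 ▸ Submodule.mem_top))

variable [FiniteDimensional k M]

theorem fl_stable (S : Set (M →ₗ[k] M)) : ∃ n, fl S ⊤ n ≤ img S (fl S ⊤ n) := by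
  obtain ⟨n, hn⟩ := IsArtinian.monotone_stabilizes (R := k) (M := M) ⟨fl S ⊤, fl_anti S⟩
  exact ⟨n, le_of_eq (hn (n + 1) (Nat.le_succ n))⟩

theorem unip_sup_of_norm {R K : Subgroup GLM} (hR : IsUnipotentOn R) (hK : IsUnipotentOn K)
    (h : ∀ x ∈ K, conjBy R x = R) : IsUnipotentOn (R ⊔ K) := by
  obtain ⟨n, hn⟩ := fl_stable (dm R ∪ dm K)
  obtain ⟨a, ha⟩ := unip_iff_fl.1 hR
  obtain ⟨b, hb⟩ := unip_iff_fl.1 hK
  refine unip_iff_flag.2 ⟨_, fl_anti (dm R ∪ dm K), n, rfl, ?_, sup_le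
    (le_flagGrp fun g hg j v hv => mem_img (S := dm R ∪ dm K) (s := (g : M →ₗ[k] M) - 1) (Or.inl ⟨g, hg, rfl⟩) hv)
    (le_flagGrp fun g hg j v hv => mem_img (S := dm R ∪ dm K) (s := (g : M →ₗ[k] M) - 1) (Or.inr ⟨g, hg, rfl⟩) hv)⟩
  have hinv : ∀ x ∈ K, ∀ v ∈ fl (dm R ∪ dm K) ⊤ n, (x : M →ₗ[k] M) v ∈ fl (dm R ∪ dm K) ⊤ n :=
    fun x hx v hv => flagGrp_map (hF := fl_anti _) (i := 1)
      (le_flagGrp (H := K) (fun g hg j v hv => mem_img (S := dm R ∪ dm K) (s := (g : M →ₗ[k] M) - 1) (Or.inr ⟨g, hg, rfl⟩) hv) hx) hv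
  generalize fl (dm R ∪ dm K) ⊤ n = V at hn hinv
  have hW : ∀ x ∈ K, img (dm R) V ≤ (img (dm R) V).comap (x : M →ₗ[k] M) := by
    intro x hx
    refine img_le.2 ?_
    rintro _ ⟨r, hr, rfl⟩ v hv
    have := mem_img_dm (h x hx ▸ conj_mem_conjBy hr x : x * r * x⁻¹ ∈ R) (hinv x hx v hv)
    rw [← Module.End.mul_apply, ← Units.val_mul, inv_mul_cancel_right] at this
    simpa using this
  have key : ∀ m, V ≤ img (dm R) V ⊔ fl (dm K) V m := by
    intro m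
    induction m with
    | zero => exact le_sup_right
    | succ m ih =>
      refine hn.trans (img_le.2 ?_)
      rintro s (hs | ⟨x, hx, rfl⟩) v hv
      · exact Submodule.mem_sup_left (mem_img hs hv)
      · obtain ⟨y, hy, z, hz, rfl⟩ := Submodule.mem_sup.1 (ih hv)
        rw [map_add]
        exact Submodule.add_mem_sup (Submodule.sub_mem _ (hW x hx hy) hy) (mem_img_dm hx hz)
  refine eq_bot_of_le_img ha ((key b).trans (sup_le le_rfl ?_))
  exact (fl_mono _ le_top b).trans (hb ▸ bot_le)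

/-- The span of the differences `g - 1` for `g` in a member of `Δ`. -/
def spn (Δ : Set (Subgroup GLM)) : Submodule k (M →ₗ[k] M) :=
  Submodule.span k {Z | ∃ A ∈ Δ, Z ∈ dm A}

theorem spn_mono {Δ Δ' : Set (Subgroup GLM)} (h : Δ ⊆ Δ') : spn Δ ≤ spn Δ' :=
  Submodule.span_mono fun _ ⟨A, hA, hZ⟩ => ⟨A, h hA, hZ⟩

omit [FiniteDimensional k M] in
theorem le_flagGrp_of_spn {Δ : Set (Subgroup GLM)} (h : ∀ A ∈ Δ, A ≤ flagGrp F hF 1)
    {A : Subgroup GLM} (hA : ∀ g ∈ A, (g : M →ₗ[k] M) - 1 ∈ spn Δ) : A ≤ flagGrp F hF 1 := by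
  refine le_flagGrp fun g hg j v hv => ?_
  have : spn Δ ≤ (F j).compatibleMaps (F (j + 1)) := by
    refine Submodule.span_le.2 ?_
    rintro _ ⟨B, hB, x, hx, rfl⟩ v hv
    exact (h B hB hx j v hv).1
  exact this (hA g hg) hv

/-- The unipotent analogue of the Baer-Suzuki theorem. -/
theorem unip_iSup {W : Set (Subgroup GLM)} (hconj : ∀ A ∈ W, ∀ B ∈ W, ∀ b ∈ B, conjBy A b ∈ W)
    (hpair : ∀ A ∈ W, ∀ B ∈ W, IsUnipotentOn (A ⊔ B)) : IsUnipotentOn (⨆ A ∈ W, A) := by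
  let Mx : Set (Subgroup GLM) → Prop := fun Δ => Δ ⊆ W ∧ ∃ (F : ℕ → Submodule k M) (hF : Antitone F)
    (n : ℕ), F 0 = ⊤ ∧ F n = ⊥ ∧ (∀ A ∈ W, A ∈ Δ ↔ A ≤ flagGrp F hF 1) ∧
      ∀ Δ', Δ ⊆ Δ' → Δ' ⊆ W → IsUnipotentOn (⨆ A ∈ Δ', A) → Δ' = Δ
  have hMu : ∀ Δ, Mx Δ → IsUnipotentOn (⨆ A ∈ Δ, A) := by
    rintro Δ ⟨h, F, hF, n, h0, hn, h1, -⟩
    exact unip_iff_flag.2 ⟨F, hF, n, h0, hn, iSup₂_le fun A hA => (h1 A (h hA)).1 hA⟩
  have hext : ∀ Γ, Γ ⊆ W → IsUnipotentOn (⨆ A ∈ Γ, A) → ∃ Δ, Mx Δ ∧ Γ ⊆ Δ := by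
    intro Γ hΓ hu
    obtain ⟨_, ⟨Δ, ⟨h1, h2, h3⟩, rfl⟩, hmax⟩ := set_has_maximal_iff_noetherian.2
      (inferInstance : IsNoetherian k (M →ₗ[k] M))
      (spn '' {Δ | Γ ⊆ Δ ∧ Δ ⊆ W ∧ IsUnipotentOn (⨆ A ∈ Δ, A)}) ⟨_, Γ, ⟨le_rfl, hΓ, hu⟩, rfl⟩
    obtain ⟨F, hF, n, h0, hn, h⟩ := unip_iff_flag.1 h3
    have h4 : Δ ⊆ {A | A ∈ W ∧ A ≤ flagGrp F hF 1} := fun A hA => ⟨h2 hA, (le_gen hA).trans h⟩
    refine ⟨{A | A ∈ W ∧ A ≤ flagGrp F hF 1}, ⟨fun A hA => hA.1, F, hF, n, h0, hn,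
      fun A hA => ⟨fun h => h.2, fun h => ⟨hA, h⟩⟩, fun Δ' h5 h6 h7 => ?_⟩, h1.trans h4⟩
    refine Set.Subset.antisymm (fun A hA => ⟨h6 hA, le_flagGrp_of_spn (Δ := Δ)
      (fun B hB => (h4 hB).2) fun g hg => ?_⟩) h5
    rw [(spn_mono (h4.trans h5)).eq_of_not_lt (hmax _ ⟨Δ', ⟨h1.trans (h4.trans h5), h6, h7⟩, rfl⟩)]
    exact Submodule.subset_span ⟨A, hA, g, hg, rfl⟩
  have hnorm : ∀ Δ Δ', Mx Δ → Mx Δ' → Δ ≠ Δ' → ∃ U ∈ Δ, U ∉ Δ' ∧
      ∀ u ∈ U, conjBy (⨆ A ∈ Δ ∩ Δ', A) u = ⨆ A ∈ Δ ∩ Δ', A := by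
    rintro Δ Δ' hΔ hΔ' hne
    obtain ⟨h, F, hF, n, h0, hn, h1, h2⟩ := hΔ
    have hu' := hMu Δ' hΔ'
    obtain ⟨h', F', hF', n', -, -, h1', -⟩ := hΔ'
    set R := ⨆ A ∈ Δ ∩ Δ', A with hR
    have hR1 : R ≤ flagGrp F hF 1 := iSup₂_le fun A hA => (h1 A (h hA.1)).1 hA.1
    have hR2 : R ≤ flagGrp F' hF' 1 := iSup₂_le fun A hA => (h1' A (h' hA.2)).1 hA.2
    let Q : ℕ → Prop := fun i => ∀ A ∈ W, A ≤ R ⊔ flagGrp F hF (i + 1) → A ∈ Δ'
    have hQn : Q n := fun A hA hle => by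
      rw [flagGrp_eq_bot (eq_bot_iff.2 (hn ▸ hF (Nat.le_succ n))) h0, sup_bot_eq] at hle
      exact (h1' A hA).2 (hle.trans hR2)
    have hQ0 : ¬ Q 0 := fun hQ => hne (h2 Δ' (fun A hA => hQ A (h hA)
      (le_sup_of_le_right ((h1 A (h hA)).1 hA))) h' hu').symm
    obtain ⟨i, hi, hi'⟩ : ∃ i, Q (i + 1) ∧ ¬ Q i := by
      by_contra hcon
      push Not at hcon
      have : ∀ m, Q m → Q 0 := fun m => Nat.rec id (fun m ih hm => ih (hcon m hm)) m
      exact hQ0 (this n hQn)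
    simp only [Q, not_forall] at hi'
    obtain ⟨U, hU, hle, hU'⟩ := hi'
    have hRi : ∀ i, R ⊔ flagGrp F hF (i + 1) ≤ flagGrp F hF 1 := fun i =>
      sup_le hR1 (flagGrp_anti (Nat.le_add_left 1 i))
    have hN : ∀ u ∈ R ⊔ flagGrp F hF (i + 1),
        conjBy (R ⊔ flagGrp F hF (i + 1 + 1)) u = R ⊔ flagGrp F hF (i + 1 + 1) := by
      refine conjBy_eq_of_mem_sup (fun r hr => conjBy_of_mem (Subgroup.mem_sup_left hr))
        fun _ => conjBy_eq_of_le fun p hp x hx => ?_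
      obtain ⟨y, hy, rfl⟩ := mem_conjBy'.1 hx
      rw [conj_eq_comm_mul]
      exact Subgroup.mul_mem _ (Subgroup.mem_sup_right (flagGrp_comm hp (hRi _ hy))) hy
    refine ⟨U, (h1 U hU).2 (hle.trans (hRi i)), hU', fun _ => conjBy_eq_of_le fun u hu => ?_⟩
    rw [hR, conjBy_iSup]
    refine iSup_le fun A => ?_
    rw [conjBy_iSup]
    refine iSup_le fun hA => le_gen (S := Δ ∩ Δ') ?_
    have m1 := hconj A (h hA.1) U hU u hu
    have m2 : conjBy A u ≤ R ⊔ flagGrp F hF (i + 1 + 1) :=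
      hN u (hle hu) ▸ conjBy_le_conjBy_iff.2 (le_sup_of_le_left (le_gen hA))
    exact ⟨(h1 _ m1).2 (m2.trans (hRi _)), hi _ m1 m2⟩
  have huniq : ∀ Δ Δ', Mx Δ → Mx Δ' → Δ = Δ' := by
    by_contra hcon
    push Not at hcon
    obtain ⟨Δ0, Δ0', h1, h2, h3⟩ := hcon
    obtain ⟨_, ⟨Δ, Δ', hΔ, hΔ', hne, rfl⟩, hmax⟩ := set_has_maximal_iff_noetherian.2
      (inferInstance : IsNoetherian k (M →ₗ[k] M))
      {P | ∃ Δ Δ', Mx Δ ∧ Mx Δ' ∧ Δ ≠ Δ' ∧ P = spn (Δ ∩ Δ')} ⟨_, Δ0, Δ0', h1, h2, h3, rfl⟩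
    obtain ⟨U, hU, hU', nU⟩ := hnorm Δ Δ' hΔ hΔ' hne
    obtain ⟨V, hV, hV', nV⟩ := hnorm Δ' Δ hΔ' hΔ hne.symm
    rw [Set.inter_comm] at nV
    have hu := unip_sup_of_norm (unip_mono (hMu Δ hΔ) (iSup₂_le fun A (hA : A ∈ Δ ∩ Δ') => le_gen hA.1))
      (hpair U (hΔ.1 hU) V (hΔ'.1 hV)) (conjBy_eq_of_mem_sup nU nV)
    obtain ⟨Δ'', hΔ'', hsub⟩ := hext (insert U (insert V (Δ ∩ Δ'))) (by
      rintro A (rfl | rfl | hA)
      exacts [hΔ.1 hU, hΔ'.1 hV, hΔ.1 hA.1]) (unip_mono hu (iSup₂_le (by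
      rintro A (rfl | rfl | hA)
      exacts [le_sup_of_le_right le_sup_left, le_sup_of_le_right le_sup_right,
        le_sup_of_le_left (le_gen hA)])))
    by_cases e : Δ = Δ''
    · exact hV' (e ▸ hsub (Or.inr (Or.inl rfl)))
    have e2 := (spn_mono (Δ := Δ ∩ Δ') (Δ' := Δ ∩ Δ'')
      fun A hA => ⟨hA.1, hsub (Or.inr (Or.inr hA))⟩).eq_of_not_lt (hmax _ ⟨Δ, Δ'', hΔ, hΔ'', e, rfl⟩)
    obtain ⟨h', F', hF', n', -, -, h1', -⟩ := hΔ'
    refine hU' ((h1' U (hΔ.1 hU)).2 (le_flagGrp_of_spn (Δ := Δ ∩ Δ')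
      (fun B hB => (h1' B (h' hB.2)).1 hB.2) fun g hg => ?_))
    rw [e2]
    exact Submodule.subset_span ⟨U, ⟨hU, hsub (Or.inl rfl)⟩, g, hg, rfl⟩
  obtain ⟨Δ, hΔ, -⟩ := hext ∅ (Set.empty_subset _) (by simpa using unip_bot)
  refine unip_mono (hMu Δ hΔ) (iSup₂_le fun A hA => le_gen ?_)
  obtain ⟨Δ', hΔ', h⟩ := hext {A} (by simpa using hA) (by simpa using hpair A hA A hA)
  exact huniq Δ Δ' hΔ hΔ' ▸ h rfl

end CfsgLib.RootSub
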