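import Cfsg.Agent.Lib.RootSub.QuadAlg
import Cfsg.Agent.Lib.RootSub.Unip

/-! Quadratic elements of minimal rank in a linear group: the basic dichotomy. -/

set_option autoImplicit false

namespace CfsgLib.RootSub

open Cfsg CfsgLib.SL2 Matrix MatrixGroups Polynomial Module
open scoped commutatorElement

variable {k : Type*} [Field k] {M : Type*} [AddCommGroup M] [Module k M]

local notation "GLM" => LinearMap.GeneralLinearGroup k M
local notation "EM" => M →ₗ[k] M

/-- The monoid of endomorphisms underlying a linear group. -/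
def mon (G : Subgroup GLM) : Submonoid EM := G.toSubmonoid.map (Units.coeHom EM)

variable {G : Subgroup (LinearMap.GeneralLinearGroup k M)} {α β η : M →ₗ[k] M}

theorem mem_mon {a : EM} : a ∈ mon G ↔ ∃ g ∈ G, (g : EM) = a := Iff.rfl

theorem coe_mem_mon {g : GLM} : (g : EM) ∈ mon G ↔ g ∈ G :=
  ⟨fun ⟨_, h, e⟩ => Units.ext e ▸ h, fun h => ⟨g, h, rfl⟩⟩

theorem mon_inv {a b : EM} (ha : a ∈ mon G) (e : a * b = 1) : b ∈ mon G := by
  obtain ⟨g, hg, rfl⟩ := ha
  exact ⟨g⁻¹, G.inv_mem hg, (Units.inv_eq_of_mul_eq_one_right e)⟩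

theorem mon_mono {H : Subgroup GLM} (h : H ≤ G) : mon H ≤ mon G := fun _ ⟨g, hg, e⟩ => ⟨g, h hg, e⟩

/-- `1 + t α` is a family of quadratic elements of `G`. -/
structure QF (G : Subgroup GLM) (α : EM) : Prop where
  sq : α * α = 0
  mem : ∀ t : k, 1 + t • α ∈ mon G

/-- The rank. -/
noncomputable def rk (α : EM) : ℕ := finrank k (LinearMap.range α)

/-- Quadratic of minimal rank. -/
structure Mn (G : Subgroup GLM) (α : EM) : Prop extends QF G α where
  ne : α ≠ 0
  min : ∀ β, QF G β → β ≠ 0 → rk α ≤ rk β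

/-- The unit `1 + α`. -/
def qu (α : EM) (h : α * α = 0) : GLM :=
  ⟨1 + α, 1 - α, by rw [add_mul, mul_sub, mul_sub, h]; simp, by rw [sub_mul, mul_add, mul_add, h]; simp⟩

@[simp] theorem qu_val (h : α * α = 0) : (qu α h : EM) = 1 + α := rfl

@[simp] theorem qu_inv_val (h : α * α = 0) : ((qu α h)⁻¹ : GLM) = (1 - α : EM) := rfl

theorem QF.zero : QF G 0 := ⟨by simp, fun t => by simpa using (mon G).one_mem⟩

theorem QF.smul (h : QF G α) (c : k) : QF G (c • α) :=
  ⟨by simp [h.sq], fun t => by rw [smul_smul]; exact h.mem _⟩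

theorem QF.neg (h : QF G α) : QF G (-α) := by simpa using h.smul (-1)

theorem QF.mono {H : Subgroup GLM} (h : QF H α) (hle : H ≤ G) : QF G α :=
  ⟨h.sq, fun t => mon_mono hle (h.mem t)⟩

theorem QF.one_add (h : QF G α) : 1 + α ∈ mon G := by simpa using h.mem 1

theorem QF.qu_mem (h : QF G α) : qu α h.sq ∈ G := coe_mem_mon.1 h.one_add

theorem QF.add (h : QF G α) (h' : QF G β) (e : α * β = 0) (e' : β * α = 0) : QF G (α + β) := by
  refine ⟨by simp [mul_add, add_mul, h.sq, h'.sq, e, e'], fun t => ?_⟩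
  convert (mon G).mul_mem (h.mem t) (h'.mem t) using 1
  simp only [mul_add, add_mul, smul_mul_assoc, mul_smul_comm, e, one_mul, mul_one, smul_zero, smul_add]
  abel

theorem QF.conj (h : QF G α) {g : GLM} (hg : g ∈ G) : QF G (g * α * (g⁻¹ : GLM)) := by
  refine ⟨?_, fun t => ?_⟩
  · rw [mul_assoc, ← mul_assoc (↑g⁻¹ : EM), ← mul_assoc (↑g⁻¹ : EM), Units.inv_mul, one_mul,
      mul_assoc, ← mul_assoc α, h.sq]
    simp
  · convert (mon G).mul_mem ((mon G).mul_mem (coe_mem_mon.2 hg) (h.mem t))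
      (coe_mem_mon.2 (G.inv_mem hg)) using 1
    simp only [mul_add, add_mul, mul_one, Units.mul_inv, smul_mul_assoc, mul_smul_comm]

theorem mem_quadraticElements {σ : GLM} :
    σ ∈ quadraticElements G ↔ QF G ((σ : EM) - 1) ∧ (σ : EM) - 1 ≠ 0 := by
  constructor
  · rintro ⟨-, ⟨h1, h2⟩, h3⟩
    refine ⟨⟨h1, fun t => ?_⟩, h2⟩
    exact ⟨qu (t • ((σ : EM) - 1)) (by simp [h1]), h3 ⟨t, rfl⟩, rfl⟩
  · rintro ⟨h1, h2⟩
    refine ⟨coe_mem_mon.1 (by simpa using h1.one_add), ⟨h1.sq, h2⟩, ?_⟩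
    rintro τ ⟨c, hc⟩
    exact coe_mem_mon.1 (hc ▸ h1.mem c)

theorem mem_minimalQuadraticElements {σ : GLM} :
    σ ∈ minimalQuadraticElements G ↔ Mn G ((σ : EM) - 1) := by
  constructor
  · rintro ⟨h1, h2⟩
    obtain ⟨h3, h4⟩ := mem_quadraticElements.1 h1
    refine ⟨h3, h4, fun β hβ hβ0 => ?_⟩
    have := h2 (qu β hβ.sq) (mem_quadraticElements.2 (by simpa using ⟨hβ, hβ0⟩))
    rwa [commutatorRank, commutatorRank, qu_val, add_sub_cancel_left] at this
  · intro h
    refine ⟨mem_quadraticElements.2 ⟨h.toQF, h.ne⟩, fun τ hτ => ?_⟩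
    obtain ⟨h3, h4⟩ := mem_quadraticElements.1 hτ
    exact h.min _ h3 h4

/-! ### Transfer from the abstract setting -/

/-- The centralizer of `γ` as an algebra over `k[X]`. -/
@[reducible] noncomputable def cAlg (γ : EM) : Algebra k[X] (Subalgebra.centralizer k ({γ} : Set EM)) :=
  (aeval (⟨γ, by simp [Subalgebra.mem_centralizer_iff]⟩ :
    Subalgebra.centralizer k ({γ} : Set EM))).toRingHom.toAlgebra' fun p x => by
      have : Commute x (⟨γ, by simp [Subalgebra.mem_centralizer_iff]⟩ :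
          Subalgebra.centralizer k ({γ} : Set EM)) :=
        Subtype.ext ((Subalgebra.mem_centralizer_iff k).1 x.2 γ rfl).symm
      induction p using Polynomial.induction_on' with
      | add p q hp hq => simp only [map_add, add_mul, mul_add, hp, hq]
      | monomial n a =>
        simp only [AlgHom.toRingHom_eq_coe, RingHom.coe_coe, aeval_monomial]
        exact (Commute.mul_right (Algebra.commutes a x).symm (this.pow_right n)).symm.eq

theorem cAlg_smul (γ : EM) (p : k[X]) (a : Subalgebra.centralizer k ({γ} : Set EM)) :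
    letI := cAlg γ
    ((p • a : Subalgebra.centralizer k ({γ} : Set EM)) : EM) = aeval γ p * a := by
  letI := cAlg γ
  rw [Algebra.smul_def, Subalgebra.coe_mul]
  congr 1
  exact (aeval_algHom_apply (Subalgebra.val _) _ p).symm

theorem gam_comm (ha : α * α = 0) (hb : β * β = 0) : (α * β + β * α) * α = α * (α * β + β * α) := by
  rw [add_mul, mul_add, mul_assoc β, ← mul_assoc α α, ha]; simp [mul_assoc]

theorem gam_comm' (ha : α * α = 0) (hb : β * β = 0) : (α * β + β * α) * β = β * (α * β + β * α) := by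
  rw [add_comm, gam_comm hb ha]

theorem gam_mul (ha : α * α = 0) : (α * β + β * α) * α = α * β * α := by
  rw [add_mul, mul_assoc β, ha]; simp

theorem gam_mul' (hb : β * β = 0) : (α * β + β * α) * β = β * α * β := by
  rw [add_comm, gam_mul hb]

/-- The first generator in the centralizer. -/
def cA (ha : α * α = 0) (hb : β * β = 0) : Subalgebra.centralizer k ({α * β + β * α} : Set EM) :=
  ⟨α, (Subalgebra.mem_centralizer_iff k).2 fun _ e => e ▸ gam_comm ha hb⟩

/-- The second generator in the centralizer. -/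
def cB (ha : α * α = 0) (hb : β * β = 0) : Subalgebra.centralizer k ({α * β + β * α} : Set EM) :=
  ⟨β, (Subalgebra.mem_centralizer_iff k).2 fun _ e => e ▸ gam_comm' ha hb⟩

@[simp] theorem cA_val (ha : α * α = 0) (hb : β * β = 0) : (cA ha hb : EM) = α := rfl

@[simp] theorem cB_val (ha : α * α = 0) (hb : β * β = 0) : (cB ha hb : EM) = β := rfl

theorem cAlg_mem {γ : EM} {p : k[X]} {a : Subalgebra.centralizer k ({γ} : Set EM)} :
    letI := cAlg γ
    1 + p • a ∈ (mon G).comap (Subalgebra.val _) ↔ 1 + aeval γ p * a ∈ mon G := by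
  letI := cAlg γ
  change 1 + ((p • a : Subalgebra.centralizer k _) : EM) ∈ mon G ↔ _
  rw [cAlg_smul]

theorem qctx (ha : QF G α) (hb : QF G β) :
    letI := cAlg (α * β + β * α)
    QCtx k (cA ha.sq hb.sq) (cB ha.sq hb.sq) ((mon G).comap (Subalgebra.val _)) := by
  letI := cAlg (α * β + β * α)
  refine ⟨Subtype.ext ha.sq, Subtype.ext hb.sq, Subtype.ext ?_,
    fun a h b e => mon_inv h (congrArg Subtype.val e), fun t => ?_, fun t => ?_⟩
  · rw [cAlg_smul]; simp [cA, cB]
  · rw [cAlg_mem, aeval_C, ← Algebra.smul_def]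
    exact ha.mem t
  · rw [cAlg_mem, aeval_C, ← Algebra.smul_def]
    exact hb.mem t

theorem nil_even' (h2 : (2 : k) ≠ 0) (ha : QF G α) (hb : QF G β) {j : ℕ}
    (e1 : (α * β + β * α) ^ (j + 1) * α = 0) (e2 : (α * β + β * α) ^ (j + 1) * β = 0) (t : k) :
    1 + t • ((α * β + β * α) ^ j * (α * β - β * α)) ∈ mon G := by
  letI := cAlg (α * β + β * α)
  have := (qctx ha hb).nil_even h2 (j := j) (Subtype.ext (by rw [cAlg_smul]; simpa using e1))
    (Subtype.ext (by rw [cAlg_smul]; simpa using e2)) t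
  rw [cAlg_mem, cAlg_smul, aeval_C, ← Algebra.smul_def] at this
  simpa using this

theorem nil_odd' (h2 : (2 : k) ≠ 0) (ha : QF G α) (hb : QF G β) {j : ℕ}
    (e1 : (α * β + β * α) ^ (j + 1) * α = 0) (e2 : (α * β + β * α) ^ (j + 1) * β = 0)
    (e3 : (α * β + β * α) ^ j * (α * β - β * α) = 0) : QF G ((α * β + β * α) ^ j * α) := by
  refine ⟨?_, fun t => ?_⟩
  · have : Commute α (α * β + β * α) := (gam_comm ha.sq hb.sq).symm
    rw [mul_assoc, ← mul_assoc α, (this.pow_right j).eq, mul_assoc _ α, ha.sq]; simp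
  letI := cAlg (α * β + β * α)
  have := (qctx ha hb).nil_odd h2 (j := j) (Subtype.ext (by rw [cAlg_smul]; simpa using e1))
    (Subtype.ext (by rw [cAlg_smul]; simpa using e2))
    (Subtype.ext (by rw [cAlg_smul]; simpa using e3)) t
  rw [cAlg_mem, cAlg_smul, aeval_C, ← Algebra.smul_def] at this
  simpa using this

/-! ### Ranks -/

variable [FiniteDimensional k M]

theorem rk_mono (h : LinearMap.range α ≤ LinearMap.range β) : rk α ≤ rk β := Submodule.finrank_mono h

theorem rk_mul_le_left (α β : EM) : rk (α * β) ≤ rk α := rk_mono (LinearMap.range_comp_le_range _ _)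

theorem rk_mul_le_right (α β : EM) : rk (α * β) ≤ rk β := by
  rw [rk, Module.End.mul_eq_comp, LinearMap.range_comp]
  exact Submodule.finrank_map_le _ _

theorem finrank_inf_ker_add (f : EM) (W : Submodule k M) :
    finrank k ↥(W ⊓ LinearMap.ker f) + finrank k (W.map f) = finrank k W := by
  rw [← LinearMap.finrank_range_add_finrank_ker (f.domRestrict W), LinearMap.range_domRestrict,
    LinearMap.ker_domRestrict, add_comm, ← Submodule.finrank_map_subtype_eq W,
    Submodule.map_comap_subtype]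

theorem rk_add_ker (α : EM) : rk α + finrank k (LinearMap.ker α) = finrank k M :=
  LinearMap.finrank_range_add_finrank_ker α

theorem range_sub_le {ρ : EM} (e : η * (ρ * η) = 0) : LinearMap.range (ρ * η - η * ρ) ≤
    (LinearMap.range ρ ⊓ LinearMap.ker η) ⊔ (LinearMap.range ρ).map η := by
  rintro _ ⟨x, rfl⟩
  exact Submodule.sub_mem _ (Submodule.mem_sup_left ⟨⟨_, rfl⟩, LinearMap.congr_fun e x⟩)
    (Submodule.mem_sup_right ⟨_, ⟨x, rfl⟩, rfl⟩)

theorem rk_sub_le {ρ : EM} (e : η * (ρ * η) = 0) : rk (ρ * η - η * ρ) ≤ rk ρ :=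
  (Submodule.finrank_mono (range_sub_le e)).trans
    ((Submodule.finrank_add_le_finrank_add_finrank _ _).trans (finrank_inf_ker_add _ _).le)

theorem rk_pow_mul_lt {γ : EM} (hc : γ * α = α * γ) (h0 : α ≠ 0) {n : ℕ} (hn : γ ^ n * α = 0) (j : ℕ) :
    rk (γ ^ (j + 1) * α) < rk α := by
  have h1 : rk (γ ^ (j + 1) * α) ≤ rk (γ * α) := by
    rw [pow_succ, mul_assoc]; exact rk_mul_le_right _ _
  refine h1.trans_lt (Submodule.finrank_lt_finrank_of_lt (lt_of_le_of_ne ?_ fun e => h0 ?_))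
  · rw [hc]; exact LinearMap.range_comp_le_range _ _
  · have key : ∀ n : ℕ, LinearMap.range (γ ^ n * α) = LinearMap.range α := fun n => by
      induction n with
      | zero => simp
      | succ n ih =>
        rw [pow_succ', mul_assoc, Module.End.mul_eq_comp, LinearMap.range_comp, ih, ← LinearMap.range_comp,
          ← Module.End.mul_eq_comp, e]
    rw [← LinearMap.range_eq_bot, ← key n, hn, LinearMap.range_zero]

theorem Mn.eq_zero (h : Mn G α) (hβ : QF G β) (e : rk β < rk α) : β = 0 := by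
  by_contra h0
  exact absurd (h.min β hβ h0) (not_le.2 e)

theorem Mn.of_le (h : Mn G α) (hβ : QF G β) (h0 : β ≠ 0) (e : rk β ≤ rk α) : Mn G β :=
  ⟨hβ, h0, fun η hη hη0 => e.trans (h.min η hη hη0)⟩

theorem Mn.rk_eq (h : Mn G α) (h' : Mn G β) : rk α = rk β :=
  le_antisymm (h.min _ h'.toQF h'.ne) (h'.min _ h.toQF h.ne)

theorem nil_even'' (h2 : (2 : k) ≠ 0) (ha : QF G α) (hb : QF G β) {j : ℕ}
    (e1 : (α * β + β * α) ^ (j + 1) * α = 0) (e2 : (α * β + β * α) ^ (j + 1) * β = 0) :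
    QF G ((α * β + β * α) ^ j * (α * β - β * α)) ∧
      rk ((α * β + β * α) ^ j * (α * β - β * α)) ≤ rk ((α * β + β * α) ^ j * α) := by
  have c1 : Commute α (α * β + β * α) := (gam_comm ha.sq hb.sq).symm
  have c2 : Commute β (α * β + β * α) := (gam_comm' ha.sq hb.sq).symm
  have e3 : β * ((α * β + β * α) ^ j * α * β) = 0 := by
    rw [← mul_assoc, ← mul_assoc, (c2.pow_right j).eq, mul_assoc, mul_assoc, ← mul_assoc β,
      ← gam_mul' hb.sq, ← mul_assoc, ← pow_succ, e2]
  have e4 : α * (β * ((α * β + β * α) ^ j * α)) = 0 := by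
    rw [← mul_assoc β, (c2.pow_right j).eq, ← mul_assoc, ← mul_assoc, (c1.pow_right j).eq, mul_assoc,
      mul_assoc, ← mul_assoc α, ← gam_mul ha.sq, ← mul_assoc, ← pow_succ, e1]
  have e5 : (α * β + β * α) ^ j * (α * β - β * α) =
      (α * β + β * α) ^ j * α * β - β * ((α * β + β * α) ^ j * α) := by
    rw [← mul_assoc β, (c2.pow_right j).eq, mul_sub, mul_assoc, mul_assoc]
  refine ⟨⟨?_, nil_even' h2 ha hb e1 e2⟩, by rw [e5]; exact rk_sub_le e3⟩
  have e6 : α * ((α * β + β * α) ^ j * (α * β - β * α)) = 0 := by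
    rw [e5, mul_sub, e4, ← mul_assoc, ← mul_assoc, (c1.pow_right j).eq, mul_assoc _ α α, ha.sq]; simp
  have e7 : β * ((α * β + β * α) ^ j * (α * β - β * α)) = 0 := by
    rw [e5, mul_sub, e3, ← mul_assoc, hb.sq]; simp
  rw [mul_assoc, sub_mul, mul_assoc, mul_assoc, e6, e7]; simp

theorem Mn.nilp (h2 : (2 : k) ≠ 0) (ha : Mn G α) (hb : QF G η) {n : ℕ}
    (hn : (α * η + η * α) ^ n * α = 0) : α * η * α = 0 := by
  have c1 := gam_comm ha.sq hb.sq
  have c2 : Commute η (α * η + η * α) := (gam_comm' ha.sq hb.sq).symm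
  have hη : ∀ j, (α * η + η * α) ^ (j + 1) * η = η * ((α * η + η * α) ^ j * α) * η := fun j => by
    rw [pow_succ, mul_assoc, gam_mul' hb.sq, ← mul_assoc η, (c2.pow_right j).eq]
    simp only [mul_assoc]
  have step : ∀ j, (α * η + η * α) ^ (j + 2) * α = 0 → (α * η + η * α) ^ (j + 2) * η = 0 →
      (α * η + η * α) ^ (j + 1) * (α * η - η * α) = 0 ∧ (α * η + η * α) ^ (j + 1) * α = 0 := by
    intro j e1 e2
    obtain ⟨h3, h4⟩ := nil_even'' h2 ha.toQF hb e1 e2
    have h5 := ha.eq_zero h3 (h4.trans_lt (rk_pow_mul_lt c1 ha.ne hn j))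
    exact ⟨h5, ha.eq_zero (nil_odd' h2 ha.toQF hb e1 e2 h5) (rk_pow_mul_lt c1 ha.ne hn j)⟩
  have key : ∀ j, (α * η + η * α) ^ (j + 2) * α = 0 → (α * η + η * α) ^ (j + 2) * η = 0 →
      (α * η + η * α) * α = 0 := by
    intro j
    induction j with
    | zero => exact fun e1 e2 => by simpa using (step 0 e1 e2).2
    | succ j ih =>
      intro e1 e2
      obtain ⟨h3, h4⟩ := step _ e1 e2
      refine ih h4 (ha.eq_zero ?_ ?_)
      · have := nil_odd' h2 hb ha.toQF (j := j + 2) (by rwa [add_comm (η * α)]) (by rwa [add_comm (η * α)])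
          (by rw [add_comm (η * α), ← neg_sub, mul_neg, h3, neg_zero])
        rwa [add_comm (η * α)] at this
      · rw [hη]
        exact ((rk_mul_le_left _ _).trans (rk_mul_le_right _ _)).trans_lt (rk_pow_mul_lt c1 ha.ne hn j)
  rw [← gam_mul ha.sq]
  refine key n (by rw [add_comm n, pow_add, mul_assoc, hn, mul_zero]) ?_
  rw [hη, pow_succ', mul_assoc _ _ α, hn]; simp

theorem Mn.main (h2 : (2 : k) ≠ 0) (h3 : Nat.card k ≠ 3) (ha : Mn G α) {H : Subgroup GLM} (hH : H ≤ G)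
    (ha' : QF H α) (hb : QF H η) (hn : α * η * α ≠ 0) :
    ∃ m : k[X], (∀ p, aeval (α * η + η * α) p * α = 0 ↔ m ∣ p) ∧ Irreducible m ∧ ¬ m ∣ X ∧
      ∀ p : k[X], 1 + aeval (α * η + η * α) p * α ∈ mon H := by
  letI := cAlg (α * η + η * α)
  have c1 : ∀ p : k[X], aeval (α * η + η * α) p * α = α * aeval (α * η + η * α) p := fun p => by
    have := cAlg_smul (α * η + η * α) p (cA ha.sq hb.sq)
    rw [← mul_one (cA ha.sq hb.sq), ← mul_smul_comm, Subalgebra.coe_mul, cAlg_smul] at this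
    simpa [cA] using this.symm
  obtain ⟨m, hm⟩ : ∃ m : k[X], ∀ p, p • cA ha.sq hb.sq = 0 ↔ m ∣ p := by
    obtain ⟨m, hm⟩ := IsPrincipalIdealRing.principal
      (LinearMap.ker (LinearMap.toSpanSingleton k[X] _ (cA ha.sq hb.sq)))
    exact ⟨m, fun p => by
      rw [← Ideal.mem_span_singleton, ← Ideal.submodule_span_eq, ← hm, LinearMap.mem_ker,
        LinearMap.toSpanSingleton_apply]⟩
  have hm' : ∀ p, aeval (α * η + η * α) p * α = 0 ↔ m ∣ p := fun p => by
    rw [← hm, Subtype.ext_iff, cAlg_smul]; rfl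
  have hm0 : m ≠ 0 := by
    rintro rfl
    exact (LinearMap.charpoly_monic (α * η + η * α)).ne_zero
      (zero_dvd_iff.1 ((hm' _).1 (by rw [LinearMap.aeval_self_charpoly, zero_mul])))
  refine (fun h => ⟨m, hm', h.1, h.2.1, fun p => cAlg_mem.1 (h.2.2 p)⟩)
    ((qctx ha' hb).main h2 h3 hm0 hm (fun p hp => ?_) fun n e => hn
    (ha.nilp h2 (hb.mono hH) (n := n) (by simpa using (hm' _).2 ((hm _).1 e))))
  rw [or_iff_not_imp_left]
  intro hp0
  have h4 : QF G (aeval (α * η + η * α) p * α) := by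
    refine ⟨by rw [mul_assoc, ← mul_assoc α, ← c1, mul_assoc _ α, ha.sq]; simp, fun t => mon_mono hH ?_⟩
    have := cAlg_mem.1 (hp t)
    rwa [mul_comm p, map_mul, aeval_C, mul_assoc, ← Algebra.smul_def] at this
  have h5 := ha.min _ h4 fun e => hp0 ((hm' p).1 e)
  have h6 : LinearMap.range α ⊓ LinearMap.ker (aeval (α * η + η * α) p) = ⊥ := by
    have := finrank_inf_ker_add (aeval (α * η + η * α) p) (LinearMap.range α)
    rw [rk, rk, Module.End.mul_eq_comp _ α, LinearMap.range_comp] at h5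
    exact Submodule.finrank_eq_zero.1 (by omega)
  refine (isCoprime_of_irreducible_dvd (fun e => hm0 e.2) fun f hf hfp ⟨m', e⟩ => ?_)
  have h7 : aeval (α * η + η * α) m' * α = 0 := by
    ext x
    refine (Submodule.eq_bot_iff _).1 h6 _ ⟨by rw [c1]; exact ⟨_, rfl⟩, ?_⟩
    have := (hm' (p * m')).2 (e ▸ mul_dvd_mul_right hfp m')
    rw [map_mul, mul_assoc] at this
    exact LinearMap.congr_fun this x
  have h8 := (hm' _).1 h7
  rw [e] at h8 hm0
  exact hf.not_isUnit (isUnit_of_dvd_one ((mul_dvd_mul_iff_right (right_ne_zero_of_mul hm0)).1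
    (by rwa [one_mul])))

/-! ### The root subgroups -/

omit [FiniteDimensional k M] in
theorem mul_eq_zero_of_le (h : LinearMap.range β ≤ LinearMap.ker α) : α * β = 0 :=
  LinearMap.range_le_ker_iff.1 h

omit [FiniteDimensional k M] in
theorem range_le_ker_of_mul (h : α * β = 0) : LinearMap.range β ≤ LinearMap.ker α :=
  LinearMap.range_le_ker_iff.2 h

/-- The elements with the same action as `α`, together with zero. -/
def eS (G : Subgroup GLM) (α : EM) : Submodule k EM where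
  carrier := {β | QF G β ∧ LinearMap.ker α ≤ LinearMap.ker β ∧
    LinearMap.range β ≤ LinearMap.range α ⊓ LinearMap.ker α}
  zero_mem' := ⟨QF.zero, by simp, by simp⟩
  add_mem' := fun {a b} ha hb => ⟨ha.1.add hb.1
      (mul_eq_zero_of_le ((hb.2.2.trans inf_le_right).trans ha.2.1))
      (mul_eq_zero_of_le ((ha.2.2.trans inf_le_right).trans hb.2.1)),
    fun x hx => by
      rw [LinearMap.mem_ker, LinearMap.add_apply, ha.2.1 hx, hb.2.1 hx, add_zero],
    by rintro _ ⟨x, rfl⟩; exact Submodule.add_mem _ (ha.2.2 ⟨x, rfl⟩) (hb.2.2 ⟨x, rfl⟩)⟩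
  smul_mem' := fun c a ha => ⟨ha.1.smul c,
    fun x hx => by rw [LinearMap.mem_ker, LinearMap.smul_apply, ha.2.1 hx, smul_zero],
    by rintro _ ⟨x, rfl⟩; exact Submodule.smul_mem _ _ (ha.2.2 ⟨x, rfl⟩)⟩

omit [FiniteDimensional k M]

theorem eS_qf (h : β ∈ eS G α) : QF G β := h.1

theorem eS_ker (h : β ∈ eS G α) : LinearMap.ker α ≤ LinearMap.ker β := h.2.1

theorem eS_range (h : β ∈ eS G α) : LinearMap.range β ≤ LinearMap.range α := h.2.2.trans inf_le_left

theorem mem_eS (ha : α * α = 0) (h1 : QF G β) (h2 : LinearMap.ker α ≤ LinearMap.ker β)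
    (h3 : LinearMap.range β ≤ LinearMap.range α) : β ∈ eS G α :=
  ⟨h1, h2, le_inf h3 (h3.trans (range_le_ker_of_mul ha))⟩

theorem QF.mem_eS (h : QF G α) : α ∈ eS G α := RootSub.mem_eS h.sq h le_rfl le_rfl

theorem eS_mul (h : β ∈ eS G α) (h' : η ∈ eS G α) : β * η = 0 :=
  mul_eq_zero_of_le ((h'.2.2.trans inf_le_right).trans h.2.1)

/-- `x α = 0` implies `x β = 0`. -/
theorem eS_mul_left (h : β ∈ eS G α) {x : EM} (e : x * α = 0) : x * β = 0 :=
  mul_eq_zero_of_le ((eS_range h).trans (range_le_ker_of_mul e))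

/-- `α x = 0` implies `β x = 0`. -/
theorem eS_mul_right (h : β ∈ eS G α) {x : EM} (e : α * x = 0) : β * x = 0 :=
  mul_eq_zero_of_le ((range_le_ker_of_mul e).trans (eS_ker h))

theorem eS_congr (h1 : LinearMap.ker α = LinearMap.ker β) (h2 : LinearMap.range α = LinearMap.range β) :
    eS G α = eS G β := by
  ext x
  change _ ∧ _ ∧ _ ↔ _ ∧ _ ∧ _
  rw [h1, h2]

/-- The root subgroup attached to `α`. -/
def EG (G : Subgroup GLM) (α : EM) : Subgroup GLM where
  carrier := {g | (g : EM) - 1 ∈ eS G α}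
  one_mem' := by simp
  mul_mem' := fun {a b} ha hb => by
    have := (eS G α).add_mem ha hb
    change _ ∈ eS G α
    convert this using 1
    rw [← add_zero (_ + _), ← eS_mul ha hb, Units.val_mul]; noncomm_ring
  inv_mem' := fun {a} ha => by
    have := (eS G α).neg_mem ha
    change _ ∈ eS G α
    convert this using 1
    rw [Units.inv_eq_of_mul_eq_one_right (a := 1 - ((a : EM) - 1)) (by
      rw [← sub_eq_zero, ← neg_eq_zero, ← eS_mul ha ha]; noncomm_ring)]
    abel

theorem mem_EG {g : GLM} : g ∈ EG G α ↔ (g : EM) - 1 ∈ eS G α := Iff.rfl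

theorem qu_mem_EG (h : β ∈ eS G α) : qu β (eS_qf h).sq ∈ EG G α := by
  rw [mem_EG, qu_val, add_sub_cancel_left]; exact h

theorem qu_eq_one {h : α * α = 0} : qu α h = 1 ↔ α = 0 := by
  rw [Units.ext_iff, qu_val]; simp

theorem mem_EG' {g : GLM} : g ∈ EG G α ↔ ∃ (β : EM) (h : β ∈ eS G α), g = qu β (eS_qf h).sq :=
  ⟨fun h => ⟨_, h, Units.ext (by simp)⟩, fun ⟨_, h, e⟩ => e ▸ qu_mem_EG h⟩

theorem EG_le : EG G α ≤ G := fun g hg => by
  obtain ⟨β, h, rfl⟩ := mem_EG'.1 hg
  exact (eS_qf h).qu_mem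

theorem qu_comm {ha : α * α = 0} {hb : β * β = 0} :
    qu α ha * qu β hb = qu β hb * qu α ha ↔ α * β = β * α := by
  rw [Units.ext_iff, Units.val_mul, Units.val_mul, qu_val, qu_val, ← sub_eq_zero,
    show (1 + α) * (1 + β) - (1 + β) * (1 + α) = α * β - β * α by noncomm_ring, sub_eq_zero]

theorem comm_EG_iff : Comm (EG G α) (EG G β) ↔ ∀ a ∈ eS G α, ∀ b ∈ eS G β, a * b = b * a := by
  constructor
  · exact fun h a ha b hb => qu_comm.1 (h _ (qu_mem_EG ha) _ (qu_mem_EG hb))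
  · intro h a ha b hb
    obtain ⟨a, ha', rfl⟩ := mem_EG'.1 ha
    obtain ⟨b, hb', rfl⟩ := mem_EG'.1 hb
    exact qu_comm.2 (h a ha' b hb')

theorem comm_EG : Comm (EG G α) (EG G α) :=
  comm_EG_iff.2 fun _ ha _ hb => by rw [eS_mul ha hb, eS_mul hb ha]

theorem Mn.EG_ne_bot (h : Mn G α) : EG G α ≠ ⊥ := fun e =>
  h.ne (qu_eq_one.1 (Subgroup.mem_bot.1 (e ▸ qu_mem_EG h.mem_eS)))

/-- Conjugation of endomorphisms. -/
def cj (g : GLM) : EM ≃ₐ[k] EM where
  toFun a := g * a * (g⁻¹ : GLM)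
  invFun a := (g⁻¹ : GLM) * a * g
  left_inv a := by simp [mul_assoc]
  right_inv a := by simp [mul_assoc]
  map_mul' a b := by simp [mul_assoc]
  map_add' a b := by simp [mul_add, add_mul]
  commutes' c := by simp [Algebra.algebraMap_eq_smul_one]

theorem cj_apply (g : GLM) (a : EM) : cj g a = g * a * (g⁻¹ : GLM) := rfl

theorem cj_inv_cj (g : GLM) (a : EM) : cj g⁻¹ (cj g a) = a := by simp [cj_apply, mul_assoc]

theorem cj_cj_inv (g : GLM) (a : EM) : cj g (cj g⁻¹ a) = a := by simp [cj_apply, mul_assoc]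

theorem cj_coe (g x : GLM) : ((g * x * g⁻¹ : GLM) : EM) - 1 = cj g ((x : EM) - 1) := by
  rw [map_sub, map_one]; rfl

theorem cj_qu (ha : α * α = 0) (x : EM) : cj (qu α ha) x = (1 + α) * x * (1 - α) := rfl

theorem QF.cj (h : QF G α) {g : GLM} (hg : g ∈ G) : QF G (cj g α) := h.conj hg

theorem cj_mem_eS (h : β ∈ eS G α) {g : GLM} (hg : g ∈ G) : cj g β ∈ eS G (cj g α) := by
  have key : ∀ (a : EM) (x : M), cj g a x = 0 ↔ a (((g⁻¹ : GLM) : EM) x) = 0 := fun a x =>
    ⟨fun e => by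
      have := congrArg ((g⁻¹ : GLM) : EM) e
      rwa [map_zero, cj_apply, ← Module.End.mul_apply, ← mul_assoc, ← mul_assoc, Units.inv_mul,
        one_mul] at this,
    fun e => by
      change (g : EM) (a (((g⁻¹ : GLM) : EM) x)) = 0
      rw [e, map_zero]⟩
  refine ⟨h.1.cj hg, fun x hx => (key _ _).2 (h.2.1 ((key _ _).1 hx)), le_inf ?_ ?_⟩
  · rintro _ ⟨x, rfl⟩
    obtain ⟨y, hy⟩ := eS_range h ⟨((g⁻¹ : GLM) : EM) x, rfl⟩
    refine ⟨(g : EM) y, ?_⟩
    rw [← Module.End.mul_apply, cj_apply, mul_assoc, Units.inv_mul, mul_one, Module.End.mul_apply, hy]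
    rfl
  · exact range_le_ker_of_mul (by
      rw [← map_mul, mul_eq_zero_of_le (h.2.2.trans inf_le_right), map_zero])

theorem conjBy_EG {g : GLM} (hg : g ∈ G) : conjBy (EG G α) g = EG G (cj g α) := by
  ext x
  rw [mem_conjBy, mem_EG, mem_EG]
  constructor
  · intro h
    have := cj_mem_eS h hg
    rwa [← cj_coe, show g * (g⁻¹ * x * g) * g⁻¹ = x by group] at this
  · intro h
    have := cj_mem_eS h (G.inv_mem hg)
    rwa [← cj_coe, cj_inv_cj, inv_inv] at this

theorem finrank_eS_cj {g : GLM} (hg : g ∈ G) : finrank k (eS G (cj g α)) = finrank k (eS G α) := by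
  rw [← LinearEquiv.finrank_map_eq (cj g).toLinearEquiv (eS G α)]
  refine congrArg (fun W : Submodule k EM => finrank k W) (Submodule.ext fun x => ⟨?_, ?_⟩)
  · exact fun h => ⟨_, cj_inv_cj g α ▸ cj_mem_eS h (G.inv_mem hg), cj_cj_inv g x⟩
  · rintro ⟨y, hy, rfl⟩
    exact cj_mem_eS hy hg

variable [FiniteDimensional k M]

theorem Mn.cj (h : Mn G α) {g : GLM} (hg : g ∈ G) : Mn G (cj g α) :=
  h.of_le (h.toQF.cj hg) (by simpa using h.ne) ((rk_mul_le_left _ _).trans (rk_mul_le_right _ _))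

theorem Mn.of_eS (h : Mn G α) (hb : β ∈ eS G α) (h0 : β ≠ 0) :
    Mn G β ∧ LinearMap.ker β = LinearMap.ker α ∧ LinearMap.range β = LinearMap.range α := by
  have h1 := h.of_le hb.1 h0 (rk_mono (eS_range hb))
  have h2 := h.rk_eq h1
  refine ⟨h1, (Submodule.eq_of_le_of_finrank_eq hb.2.1 ?_).symm,
    Submodule.eq_of_le_of_finrank_eq (eS_range hb) h2.symm⟩
  have := rk_add_ker α
  have := rk_add_ker β
  omega

theorem Mn.eS_eq (h : Mn G α) (hb : β ∈ eS G α) (h0 : β ≠ 0) : eS G β = eS G α :=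
  eS_congr (h.of_eS hb h0).2.1 (h.of_eS hb h0).2.2

theorem Mn.EG_eq (h : Mn G α) (hb : β ∈ eS G α) (h0 : β ≠ 0) : EG G β = EG G α := by
  ext x; rw [mem_EG, mem_EG, h.eS_eq hb h0]

theorem coe_EG {σ : GLM} (h : Mn G ((σ : EM) - 1)) :
    (EG G ((σ : EM) - 1) : Set GLM) = sameActionClass G σ ∪ {1} := by
  ext τ
  constructor
  · intro hτ
    by_cases h1 : τ = 1
    · exact Or.inr h1
    obtain ⟨h2, h3, h4⟩ := h.of_eS hτ fun e => h1 (Units.ext (sub_eq_zero.1 e))
    exact Or.inl ⟨mem_minimalQuadraticElements.2 h2, h3, h4⟩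
  · rintro (⟨h2, h3, h4⟩ | rfl)
    · exact mem_eS h.sq (mem_minimalQuadraticElements.1 h2).toQF h3.ge h4.le
    · exact Subgroup.one_mem _

theorem sameActionSubgroup_eq {σ : GLM} (h : Mn G ((σ : EM) - 1)) :
    sameActionSubgroup G σ = EG G ((σ : EM) - 1) := by
  refine le_antisymm ((Subgroup.closure_le _).2 (coe_EG h ▸ Set.subset_union_left)) fun x hx => ?_
  rcases (Set.ext_iff.1 (coe_EG h) x).1 hx with h1 | rfl
  · exact Subgroup.subset_closure h1
  · exact Subgroup.one_mem _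

theorem mem_Sig {A : Subgroup GLM} : A ∈ quadraticRootSubgroups G ↔ ∃ α, Mn G α ∧ A = EG G α := by
  constructor
  · rintro ⟨σ, hσ, rfl⟩
    have := mem_minimalQuadraticElements.1 hσ
    exact ⟨_, this, sameActionSubgroup_eq this⟩
  · rintro ⟨α, h, rfl⟩
    have h1 : Mn G ((qu α h.sq : EM) - 1) := by simpa using h
    exact ⟨_, mem_minimalQuadraticElements.2 h1, by rw [sameActionSubgroup_eq h1]; simp⟩

theorem Mn.mem_Sig (h : Mn G α) : EG G α ∈ quadraticRootSubgroups G := RootSub.mem_Sig.2 ⟨α, h, rfl⟩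

omit [FiniteDimensional k M] in
theorem aeval_comm {x γ : EM} (hx : Commute x γ) (s : k[X]) : Commute x (aeval γ s) := by
  induction s using Polynomial.induction_on' with
  | add p q hp hq => rw [map_add]; exact hp.add_right hq
  | monomial n a =>
    rw [aeval_monomial]
    exact Commute.mul_right (Algebra.commutes a x).symm (hx.pow_right n)

theorem Mn.exists_partner (h2 : (2 : k) ≠ 0) (h3 : Nat.card k ≠ 3) (ha : Mn G α) (hb : QF G η)
    (hn : α * η * α ≠ 0) : ∃ α' ∈ eS G α, α' ≠ 0 ∧ α' * η * α' = α' := by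
  obtain ⟨m, hm, hi, hX, hall⟩ := ha.main h2 h3 le_rfl ha.toQF hb hn
  obtain ⟨u, s, e⟩ := hi.coprime_iff_not_dvd.2 hX
  have c1 : Commute α (α * η + η * α) := (gam_comm ha.sq hb.sq).symm
  have c2 : Commute η (α * η + η * α) := (gam_comm' ha.sq hb.sq).symm
  have c3 : ∀ x, Commute x (α * η + η * α) → Commute x (aeval (α * η + η * α) s) := fun x hx =>
    aeval_comm hx s
  have e1 : aeval (α * η + η * α) s * (α * η * α) = α := by
    have := (hm (u * m)).2 (dvd_mul_left _ _)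
    rw [eq_sub_of_add_eq e, map_sub, map_one, map_mul, aeval_X, sub_mul, one_mul, mul_assoc,
      gam_mul ha.sq, sub_eq_zero] at this
    exact this.symm
  refine ⟨aeval (α * η + η * α) s * α, mem_eS ha.sq ⟨?_, fun t => ?_⟩ (LinearMap.ker_le_ker_comp _ _)
    (by rw [← (c3 _ c1).eq]; exact LinearMap.range_comp_le_range _ _), fun e2 => ha.ne ?_, ?_⟩
  · rw [mul_assoc, ← mul_assoc α, (c3 _ c1).eq, mul_assoc _ α, ha.sq]; simp
  · have := hall (C t * s)
    rwa [map_mul, aeval_C, mul_assoc, ← Algebra.smul_def] at this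
  · rw [← e1, ← mul_assoc, ← mul_assoc, e2]; simp
  · rw [mul_assoc, mul_assoc, ← mul_assoc η, (c3 _ c2).eq, ← mul_assoc α, ← mul_assoc α, (c3 _ c1).eq,
      mul_assoc _ α, mul_assoc _ _ α, e1]

end CfsgLib.RootSub
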