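import Cfsg.Agent.Lib.RootSub.QuadPair

/-! Pairs of root subgroups of a quadratic pair. -/

set_option autoImplicit false

namespace CfsgLib.RootSub

open Cfsg CfsgLib.SL2 Matrix MatrixGroups Module
open scoped commutatorElement

variable {k : Type*} [Field k] {M : Type*} [AddCommGroup M] [Module k M]

local notation "GLM" => LinearMap.GeneralLinearGroup k M
local notation "EM" => M →ₗ[k] M

variable {G : Subgroup (LinearMap.GeneralLinearGroup k M)} {α β η a b : M →ₗ[k] M}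

/-- Opposite elements. -/
def Opp (α β : EM) : Prop :=
  Disjoint (LinearMap.range α) (LinearMap.ker β) ∧ Disjoint (LinearMap.range β) (LinearMap.ker α)

theorem Opp.symm (h : Opp α β) : Opp β α := ⟨h.2, h.1⟩

theorem mul_inj_of_disjoint (h : Disjoint (LinearMap.range α) (LinearMap.ker β)) {x : EM}
    (e : β * (α * x) = 0) : α * x = 0 := by
  ext v
  exact (Submodule.disjoint_def.1 h) _ ⟨_, rfl⟩ (LinearMap.congr_fun e v)

theorem Opp.ne (h : Opp α β) (h0 : α ≠ 0) : α * β * α ≠ 0 := fun e => h0 <| by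
  have := mul_inj_of_disjoint h.2 (x := α) (by rwa [← mul_assoc])
  simpa using mul_inj_of_disjoint h.1 (x := 1) (by simpa using this)

theorem partner_eq (ha : a * a = 0) (hb : b * b = 0) (e1 : a * b * a = a) (e2 : b * a * b = b) :
    cj (qu b hb) a = cj (qu a ha) (-b) := by
  rw [cj_qu, cj_qu, ← sub_eq_zero]
  calc _ = (a - a * b * a) + (b - b * a * b) := by noncomm_ring
    _ = 0 := by rw [e1, e2]; simp

theorem st3_anti {U V : Submodule k M} (h : V ≤ U) :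
    Antitone fun n : ℕ => if n = 0 then ⊤ else if n = 1 then U else if n = 2 then V else ⊥ := by
  refine antitone_nat_of_succ_le fun n => ?_
  rcases n with _ | _ | _ | n <;> simp [h]

/-- The stabilizer of the chain `M ≥ U ≥ V ≥ 0`. -/
def st3 {U V : Submodule k M} (h : V ≤ U) : Subgroup GLM := flagGrp _ (st3_anti h) 1

theorem unip_st3 {U V : Submodule k M} (h : V ≤ U) : IsUnipotentOn (st3 h) :=
  unip_iff_flag.2 ⟨_, st3_anti h, 3, by simp, by simp, le_rfl⟩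

theorem EG_le_st3 {U V : Submodule k M} (h : V ≤ U) (h1 : ∀ a ∈ eS G α, ∀ v, a v ∈ U)
    (h2 : ∀ a ∈ eS G α, ∀ v ∈ U, a v ∈ V) (h3 : ∀ a ∈ eS G α, ∀ v ∈ V, a v = 0) : EG G α ≤ st3 h := by
  refine le_flagGrp fun g hg j v hv => ?_
  rcases j with _ | _ | _ | j
  · exact h1 _ hg v
  · exact h2 _ hg v hv
  · exact h3 _ hg v hv
  · obtain rfl : v = 0 := hv
    simp

theorem mem_st3 {U V : Submodule k M} {h : V ≤ U} {g : GLM} (hg : g ∈ st3 h) :
    (∀ v, (g : EM) v - v ∈ U) ∧ (∀ v ∈ U, (g : EM) v - v ∈ V) ∧ ∀ v ∈ V, (g : EM) v = v :=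
  ⟨fun v => (hg 0 v trivial).1, fun v hv => (hg 1 v hv).1, fun v hv => sub_eq_zero.1 (hg 2 v hv).1⟩

theorem fixedSubmodule_EG (h : QF G α) : fixedSubmodule (EG G α) = LinearMap.ker α := by
  refine le_antisymm ?_ (le_iInf₂ fun g hg => eS_ker hg)
  refine (iInf₂_le _ (qu_mem_EG h.mem_eS)).trans ?_
  rw [qu_val, add_sub_cancel_left]

theorem commutatorSubmodule_EG (h : QF G α) : commutatorSubmodule (EG G α) = LinearMap.range α := by
  refine le_antisymm (iSup₂_le fun g hg => eS_range hg) ?_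
  refine le_trans ?_ (le_iSup₂_of_le _ (qu_mem_EG h.mem_eS) le_rfl)
  rw [qu_val, add_sub_cancel_left]

/-- The nilpotent case. -/
def Np (G : Subgroup GLM) (α β : EM) : Prop :=
  (∀ a ∈ eS G α, ∀ b ∈ eS G β, ∀ a' ∈ eS G α, a * b * a' = 0) ∧
    ∀ b ∈ eS G β, ∀ a ∈ eS G α, ∀ b' ∈ eS G β, b * a * b' = 0

theorem Np.symm (h : Np G α β) : Np G β α := ⟨h.2, h.1⟩

theorem Np.unip (h : Np G α β) (ha : QF G α) (hb : QF G β) : IsUnipotentOn (EG G α ⊔ EG G β) := by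
  have key : ∀ {α β : EM}, Np G α β → QF G α → QF G β → ∀ a ∈ eS G α,
      ∀ v ∈ LinearMap.range α ⊔ LinearMap.range β, a v ∈ LinearMap.range α ∧ α (a v) = 0 ∧ β (a v) = 0 := by
    intro α β h ha hb a ha' v hv
    refine ⟨eS_range ha' ⟨_, rfl⟩, LinearMap.congr_fun (eS_mul ha.mem_eS ha') v, ?_⟩
    obtain ⟨_, ⟨x, rfl⟩, _, ⟨y, rfl⟩, rfl⟩ := Submodule.mem_sup.1 hv
    have h1 : a (α x) = 0 := LinearMap.congr_fun (eS_mul ha' ha.mem_eS) x
    rw [map_add, h1, zero_add]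
    exact LinearMap.congr_fun (h.2 _ hb.mem_eS _ ha' _ hb.mem_eS) y
  refine unip_mono (unip_st3 (U := LinearMap.range α ⊔ LinearMap.range β)
    (V := (LinearMap.range α ⊔ LinearMap.range β) ⊓ (LinearMap.ker α ⊓ LinearMap.ker β)) inf_le_left)
    (sup_le (EG_le_st3 _ ?_ ?_ ?_) (EG_le_st3 _ ?_ ?_ ?_))
  · exact fun a h v => Submodule.mem_sup_left (eS_range h ⟨_, rfl⟩)
  · exact fun a h' v hv => ⟨Submodule.mem_sup_left (key h ha hb a h' v hv).1, (key h ha hb a h' v hv).2⟩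
  · exact fun a h v hv => eS_ker h hv.2.1
  · exact fun a h v => Submodule.mem_sup_right (eS_range h ⟨_, rfl⟩)
  · intro a h' v hv
    have := key h.symm hb ha a h' v (sup_comm (LinearMap.range α) _ ▸ hv)
    exact ⟨Submodule.mem_sup_right this.1, this.2.2, this.2.1⟩
  · exact fun a h v hv => eS_ker h hv.2.2

theorem sq_sub (ha : a * a = 0) (hb : b * b = 0) (e1 : a * b * a = 0) (e2 : b * a * b = 0) :
    (a * b - b * a) * (a * b - b * a) = 0 := by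
  calc _ = a * b * a * b - a * (b * b) * a - b * (a * a) * b + b * a * b * a := by noncomm_ring
    _ = 0 := by rw [ha, hb, e1, e2]; simp

theorem comm_qu (ha : a * a = 0) (hb : b * b = 0) (e1 : a * b * a = 0) (e2 : b * a * b = 0) :
    ⁅qu a ha, qu b hb⁆ = qu _ (sq_sub ha hb e1 e2) := by
  refine Units.ext ?_
  rw [commutatorElement_def, Units.val_mul, Units.val_mul, Units.val_mul, qu_val, qu_val, qu_val,
    qu_inv_val, qu_inv_val]
  calc _ = 1 + (a * b - b * a) - a * a - b * b - a * b * a + a * a * b + b * a * b - a * (b * b) +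
      a * b * a * b := by noncomm_ring
    _ = _ := by rw [ha, hb, e1, e2]; simp

theorem qf_comm (ha : QF G a) (hb : QF G b) (e1 : a * b * a = 0) (e2 : b * a * b = 0) :
    QF G (a * b - b * a) := by
  refine ⟨sq_sub ha.sq hb.sq e1 e2, fun t => ?_⟩
  have h1 : ⁅qu _ (ha.smul t).sq, qu b hb.sq⁆ ∈ G :=
    Subgroup.commutator_le_self G (Subgroup.commutator_mem_commutator (ha.smul t).qu_mem hb.qu_mem)
  rw [comm_qu _ _ (by simp [e1]) (by simp [e2]), ← coe_mem_mon, qu_val] at h1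
  simpa [smul_sub] using h1

variable [FiniteDimensional k M]

theorem opp_of_partner (ha : Mn G α) (hb : Mn G β) (e : α * β * α = α) : Opp α β := by
  refine ⟨Submodule.disjoint_def.2 ?_, disjoint_iff.2 (Submodule.finrank_eq_zero.1 ?_)⟩
  · rintro _ ⟨y, rfl⟩ hy
    rw [← e, mul_assoc, Module.End.mul_apply, Module.End.mul_apply, hy, map_zero]
  · have h1 := finrank_inf_ker_add α (LinearMap.range β)
    have h2 := rk_mul_le_left (α * β) α
    have h3 := ha.rk_eq hb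
    rw [e, rk, rk, Module.End.mul_eq_comp α β, LinearMap.range_comp] at h2
    rw [rk, rk] at h3
    omega

theorem Opp.of_eS (h : Opp α β) (ha : Mn G α) (hb : Mn G β) (ha' : a ∈ eS G α) (ha0 : a ≠ 0)
    (hb' : b ∈ eS G β) (hb0 : b ≠ 0) : Opp a b := by
  rw [Opp, (ha.of_eS ha' ha0).2.1, (ha.of_eS ha' ha0).2.2, (hb.of_eS hb' hb0).2.1, (hb.of_eS hb' hb0).2.2]
  exact h

theorem opp_of_ne (h2 : (2 : k) ≠ 0) (h3 : Nat.card k ≠ 3) (ha : Mn G α) (hb : Mn G β)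
    (e : α * β * α ≠ 0) : Opp α β := by
  obtain ⟨a, h1, h0, e1⟩ := ha.exists_partner h2 h3 hb.toQF e
  exact (opp_of_partner (ha.of_eS h1 h0).1 hb e1).of_eS (ha.of_eS h1 h0).1 hb
    (ha.eS_eq h1 h0 ▸ ha.mem_eS) ha.ne hb.mem_eS hb.ne

theorem Opp.partner (h2 : (2 : k) ≠ 0) (h3 : Nat.card k ≠ 3) (h : Opp α β) (ha : Mn G α) (hb : Mn G β)
    (hb' : b ∈ eS G β) (hb0 : b ≠ 0) : ∃ a ∈ eS G α, a ≠ 0 ∧ a * b * a = a ∧ b * a * b = b := by
  obtain ⟨a, h1, h0, e1⟩ := ha.exists_partner h2 h3 hb'.1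
    ((h.of_eS ha hb ha.mem_eS ha.ne hb' hb0).ne ha.ne)
  refine ⟨a, h1, h0, e1, ?_⟩
  have := mul_inj_of_disjoint (h.of_eS ha hb h1 h0 hb' hb0).2 (x := a * b - 1) (by
    rw [← mul_assoc, mul_sub, ← mul_assoc, e1]; simp)
  rwa [mul_sub, ← mul_assoc, mul_one, sub_eq_zero] at this

theorem partner_conj (ha : Mn G α) (hb : Mn G β) (ha' : a ∈ eS G α) (ha0 : a ≠ 0) (hb' : b ∈ eS G β)
    (hb0 : b ≠ 0) (e1 : a * b * a = a) (e2 : b * a * b = b) :
    conjBy (EG G α) (qu b hb'.1.sq) = conjBy (EG G β) (qu a ha'.1.sq) := by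
  rw [← ha.EG_eq ha' ha0, ← hb.EG_eq ((eS G β).neg_mem hb') (neg_ne_zero.2 hb0), conjBy_EG hb'.1.qu_mem,
    conjBy_EG ha'.1.qu_mem, partner_eq _ _ e1 e2]

theorem Opp.r1 (h2 : (2 : k) ≠ 0) (h3 : Nat.card k ≠ 3) (h : Opp α β) (ha : Mn G α) (hb : Mn G β) :
    IsRankOnePair (EG G α) (EG G β) := by
  refine r1_of_partner (fun e => h.ne ha.ne ?_) (isNilpotent_of_comm comm_EG) (isNilpotent_of_comm comm_EG)
    (fun x hx hx1 => ?_) fun x hx hx1 => ?_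
  · have := mem_EG.1 (e ▸ qu_mem_EG hb.mem_eS : _ ∈ EG G α)
    rw [qu_val, add_sub_cancel_left] at this
    rw [eS_mul ha.mem_eS this, zero_mul]
  · obtain ⟨a, ha', rfl⟩ := mem_EG'.1 hx
    have ha0 : a ≠ 0 := mt qu_eq_one.2 hx1
    obtain ⟨b, hb', hb0, e1, e2⟩ := h.symm.partner h2 h3 hb ha ha' ha0
    exact ⟨_, qu_mem_EG hb', mt qu_eq_one.1 hb0, partner_conj ha hb ha' ha0 hb' hb0 e2 e1⟩
  · obtain ⟨b, hb', rfl⟩ := mem_EG'.1 hx
    have hb0 : b ≠ 0 := mt qu_eq_one.2 hx1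
    obtain ⟨a, ha', ha0, e1, e2⟩ := h.partner h2 h3 ha hb hb' hb0
    exact ⟨_, qu_mem_EG ha', mt qu_eq_one.1 ha0, partner_conj ha hb ha' ha0 hb' hb0 e1 e2⟩

theorem Opp.sp (h2 : (2 : k) ≠ 0) (h3 : Nat.card k ≠ 3) (h : Opp α β) (ha : Mn G α) (hb : Mn G β) :
    IsSpecialRankOnePair (EG G α) (EG G β) := by
  refine sp_of_inv (h.r1 h2 h3 ha hb) fun x hx _ y hy hy1 e => ?_
  obtain ⟨b, hb', rfl⟩ := mem_EG'.1 hy
  have hb0 : b ≠ 0 := mt qu_eq_one.2 hy1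
  obtain ⟨a, ha', ha0, e1, e2⟩ := h.partner h2 h3 ha hb hb' hb0
  obtain rfl := r1_inj (h.r1 h2 h3 ha hb) hx (qu_mem_EG ha')
    (e.symm.trans (partner_conj ha hb ha' ha0 hb' hb0 e1 e2))
  have := partner_conj ha hb ((eS G α).neg_mem ha') (neg_ne_zero.2 ha0) ((eS G β).neg_mem hb')
    (neg_ne_zero.2 hb0) (by simp [e1]) (by simp [e2])
  convert this using 2 <;> exact Units.ext (by simp [sub_eq_add_neg])

theorem opp_or_np (h2 : (2 : k) ≠ 0) (h3 : Nat.card k ≠ 3) (ha : Mn G α) (hb : Mn G β) :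
    Opp α β ∨ Np G α β := by
  have key : ∀ {α β : EM}, Mn G α → Mn G β → ¬ Opp α β →
      ∀ a ∈ eS G α, ∀ b ∈ eS G β, ∀ a' ∈ eS G α, a * b * a' = 0 := by
    intro α β ha hb h a ha' b hb' a' ha''
    by_cases ha0 : a = 0
    · simp [ha0]
    by_cases hb0 : b = 0
    · simp [hb0]
    refine eS_mul_left (ha.eS_eq ha' ha0 ▸ ha'') (by_contra fun e => h ?_)
    exact (opp_of_ne h2 h3 (ha.of_eS ha' ha0).1 (hb.of_eS hb' hb0).1 e).of_eS (ha.of_eS ha' ha0).1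
      (hb.of_eS hb' hb0).1 (ha.eS_eq ha' ha0 ▸ ha.mem_eS) ha.ne (hb.eS_eq hb' hb0 ▸ hb.mem_eS) hb.ne
  exact or_iff_not_imp_left.2 fun h => ⟨key ha hb h, key hb ha fun h' => h h'.symm⟩

theorem Np.of_eS (h : Np G α β) (ha : Mn G α) (hb : Mn G β) (ha' : a ∈ eS G α) (ha0 : a ≠ 0)
    (hb' : b ∈ eS G β) (hb0 : b ≠ 0) : Np G a b := by
  rw [Np, ha.eS_eq ha' ha0, hb.eS_eq hb' hb0]; exact h

theorem Np.mn (h : Np G α β) (ha : Mn G α) (hb : Mn G β) (hne : α * β - β * α ≠ 0) :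
    Mn G (α * β - β * α) :=
  ha.of_le (qf_comm ha.toQF hb.toQF (h.1 _ ha.mem_eS _ hb.mem_eS _ ha.mem_eS)
    (h.2 _ hb.mem_eS _ ha.mem_eS _ hb.mem_eS)) hne
    (rk_sub_le (by rw [← mul_assoc]; exact h.2 _ hb.mem_eS _ ha.mem_eS _ hb.mem_eS))

theorem Np.struct (h : Np G α β) (ha : Mn G α) (hb : Mn G β) (hne : α * β - β * α ≠ 0) :
    (LinearMap.range β).map α = LinearMap.range α ⊓ LinearMap.ker β ∧
      Disjoint (LinearMap.range α ⊓ LinearMap.ker β) ((LinearMap.range α).map β) ∧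
      LinearMap.range (α * β - β * α) =
        (LinearMap.range α ⊓ LinearMap.ker β) ⊔ (LinearMap.range α).map β := by
  have e2 : β * (α * β) = 0 := by rw [← mul_assoc]; exact h.2 _ hb.mem_eS _ ha.mem_eS _ hb.mem_eS
  have h1 := ha.rk_eq (h.mn ha hb hne)
  have h3 := finrank_inf_ker_add β (LinearMap.range α)
  have h4 := range_sub_le e2
  have h5 : (LinearMap.range β).map α ≤ LinearMap.range α ⊓ LinearMap.ker β := by
    rintro _ ⟨_, ⟨x, rfl⟩, rfl⟩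
    exact ⟨⟨_, rfl⟩, LinearMap.congr_fun e2 x⟩
  have h6 : LinearMap.range (α * β - β * α) ≤ (LinearMap.range β).map α ⊔ (LinearMap.range α).map β := by
    rintro _ ⟨x, rfl⟩
    exact Submodule.sub_mem _ (Submodule.mem_sup_left ⟨_, ⟨x, rfl⟩, rfl⟩)
      (Submodule.mem_sup_right ⟨_, ⟨x, rfl⟩, rfl⟩)
  have h7 := (Submodule.finrank_mono h6).trans (Submodule.finrank_add_le_finrank_add_finrank _ _)
  have h8 := Submodule.finrank_mono h4
  have h9 := Submodule.finrank_sup_add_finrank_inf_eq (LinearMap.range α ⊓ LinearMap.ker β)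
    ((LinearMap.range α).map β)
  rw [rk, rk] at h1
  exact ⟨Submodule.eq_of_le_of_finrank_le h5 (by omega),
    disjoint_iff.2 (Submodule.finrank_eq_zero.1 (by omega)), Submodule.eq_of_le_of_finrank_le h4 (by omega)⟩

theorem Np.struct' (h : Np G α β) (ha : Mn G α) (hb : Mn G β) (hne : α * β - β * α ≠ 0) :
    (LinearMap.range α).map β = LinearMap.range β ⊓ LinearMap.ker α :=
  (h.symm.struct hb ha (by rwa [← neg_sub, neg_ne_zero])).1

theorem Np.ker_le (h : Np G α β) (ha : Mn G α) (hb : Mn G β) (hne : α * β - β * α ≠ 0) {x : M}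
    (hx : (α * β - β * α) x = 0) : α (β x) = 0 ∧ β (α x) = 0 := by
  obtain ⟨h1, h2, -⟩ := h.struct ha hb hne
  have e : α (β x) = β (α x) := sub_eq_zero.1 hx
  have := Submodule.disjoint_def.1 h2 (α (β x)) (h1 ▸ ⟨_, ⟨x, rfl⟩, rfl⟩) (e ▸ ⟨_, ⟨x, rfl⟩, rfl⟩)
  exact ⟨this, e ▸ this⟩

/-- A vector killed by `α β` lies in `α M + ker β`. -/
theorem Np.decomp (h : Np G α β) (ha : Mn G α) (hb : Mn G β) (hne : α * β - β * α ≠ 0) {x : M}
    (hx : α (β x) = 0) : ∃ y, β (x - α y) = 0 := by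
  obtain ⟨_, ⟨y, rfl⟩, e⟩ : β x ∈ (LinearMap.range α).map β := h.struct' ha hb hne ▸ ⟨⟨x, rfl⟩, hx⟩
  exact ⟨y, by rw [map_sub, e, sub_self]⟩

theorem Np.le_range (h : Np G α β) (ha : Mn G α) (hb : Mn G β) (hne : α * β - β * α ≠ 0) :
    LinearMap.range α ⊓ LinearMap.ker β ≤ LinearMap.range (α * β - β * α) ∧
      LinearMap.range β ⊓ LinearMap.ker α ≤ LinearMap.range (α * β - β * α) := by
  rw [(h.struct ha hb hne).2.2, h.struct' ha hb hne]
  exact ⟨le_sup_left, le_sup_right⟩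

theorem Np.mem_eS (h : Np G α β) (ha : Mn G α) (hb : Mn G β) (hne : α * β - β * α ≠ 0)
    (ha' : a ∈ eS G α) (hb' : b ∈ eS G β) : a * b - b * a ∈ eS G (α * β - β * α) := by
  refine RootSub.mem_eS (h.mn ha hb hne).sq (qf_comm ha'.1 hb'.1 (h.1 _ ha' _ hb' _ ha')
    (h.2 _ hb' _ ha' _ hb')) (fun x hx => ?_) ?_
  · obtain ⟨y, hy⟩ := h.decomp ha hb hne (h.ker_le ha hb hne hx).1
    obtain ⟨z, hz⟩ := h.symm.decomp hb ha (by rwa [← neg_sub, neg_ne_zero]) (h.ker_le ha hb hne hx).2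
    have e1 : b x = b (α y) := by rw [← sub_eq_zero, ← map_sub]; exact eS_ker hb' hy
    have e2 : a x = a (β z) := by rw [← sub_eq_zero, ← map_sub]; exact eS_ker ha' hz
    change a (b x) - b (a x) = 0
    rw [e1, e2, show a (b (α y)) = 0 from LinearMap.congr_fun (h.1 _ ha' _ hb' _ ha.mem_eS) y,
      show b (a (β z)) = 0 from LinearMap.congr_fun (h.2 _ hb' _ ha' _ hb.mem_eS) z, sub_zero]
  · rintro _ ⟨x, rfl⟩
    exact Submodule.sub_mem _ ((h.le_range ha hb hne).1 ⟨eS_range ha' ⟨_, rfl⟩,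
      LinearMap.congr_fun (h.2 _ hb.mem_eS _ ha' _ hb') x⟩) ((h.le_range ha hb hne).2
      ⟨eS_range hb' ⟨_, rfl⟩, LinearMap.congr_fun (h.1 _ ha.mem_eS _ hb' _ ha') x⟩)

theorem Np.ne_of_eS (h : Np G α β) (ha : Mn G α) (hb : Mn G β) (hne : α * β - β * α ≠ 0)
    (ha' : a ∈ eS G α) (ha0 : a ≠ 0) (hb' : b ∈ eS G β) (hb0 : b ≠ 0) : a * b - b * a ≠ 0 := by
  intro e
  rw [sub_eq_zero] at e
  obtain ⟨-, h2, -⟩ := h.struct ha hb hne
  rw [h.struct' ha hb hne] at h2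
  have h3 : a * b = 0 := by
    ext x
    exact Submodule.disjoint_def.1 h2 _ ⟨eS_range ha' ⟨_, rfl⟩,
      LinearMap.congr_fun (h.2 _ hb.mem_eS _ ha' _ hb') x⟩ ⟨e ▸ eS_range hb' ⟨_, rfl⟩,
      LinearMap.congr_fun (by rw [← mul_assoc, eS_mul ha.mem_eS ha', zero_mul] : α * (a * b) = 0) x⟩
  have ha1 : α ∈ eS G a := ha.eS_eq ha' ha0 ▸ ha.mem_eS
  have hb1 : β ∈ eS G b := hb.eS_eq hb' hb0 ▸ hb.mem_eS
  rw [eS_mul_right ha1 (eS_mul_left hb1 h3), eS_mul_right hb1 (eS_mul_left ha1 (e ▸ h3)), sub_zero] at hne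
  exact hne rfl

theorem Np.le_st3 (h : Np G α β) (ha : Mn G α) (hb : Mn G β) (hne : α * β - β * α ≠ 0) :
    EG G α ≤ st3 (range_le_ker_of_mul (h.mn ha hb hne).sq) := by
  refine EG_le_st3 _ (fun a ha' v => ?_) (fun a ha' v hv => ?_) ?_
  · change α (β (a v)) - β (α (a v)) = 0
    rw [show α (β (a v)) = 0 from LinearMap.congr_fun (h.1 _ ha.mem_eS _ hb.mem_eS _ ha') v,
      show α (a v) = 0 from LinearMap.congr_fun (eS_mul ha.mem_eS ha') v, map_zero, sub_zero]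
  · obtain ⟨z, hz⟩ := h.symm.decomp hb ha (by rwa [← neg_sub, neg_ne_zero]) (h.ker_le ha hb hne hv).2
    have e2 : a v = a (β z) := by rw [← sub_eq_zero, ← map_sub]; exact eS_ker ha' hz
    refine (h.le_range ha hb hne).1 ⟨eS_range ha' ⟨_, rfl⟩, ?_⟩
    rw [e2]
    exact LinearMap.congr_fun (h.2 _ hb.mem_eS _ ha' _ hb.mem_eS) z
  · rintro a ha' _ ⟨v, rfl⟩
    change a (α (β v) - β (α v)) = 0
    rw [map_sub, show a (β (α v)) = 0 from LinearMap.congr_fun (h.1 _ ha' _ hb.mem_eS _ ha.mem_eS) v,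
      show a (α (β v)) = 0 from LinearMap.congr_fun (eS_mul ha' ha.mem_eS) _, sub_zero]

theorem Np.comm_left (h : Np G α β) (ha : Mn G α) (hb : Mn G β) :
    Comm (EG G (α * β - β * α)) (EG G α) := by
  refine comm_EG_iff.2 fun c hc a ha' => ?_
  rw [eS_mul_right hc, eS_mul_left hc]
  · rw [mul_sub, ← mul_assoc, ← mul_assoc, eS_mul ha' ha.mem_eS, h.1 _ ha' _ hb.mem_eS _ ha.mem_eS]; simp
  · rw [sub_mul, mul_assoc β, eS_mul ha.mem_eS ha', h.1 _ ha.mem_eS _ hb.mem_eS _ ha']; simp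

omit [FiniteDimensional k M] in
theorem EG_neg : EG G (-α) = EG G α := by
  ext x; rw [mem_EG, mem_EG, eS_congr (LinearMap.ker_neg α) (LinearMap.range_neg α)]

theorem Np.comm_right (h : Np G α β) (ha : Mn G α) (hb : Mn G β) :
    Comm (EG G (α * β - β * α)) (EG G β) := by
  rw [← EG_neg, neg_sub]; exact h.symm.comm_left hb ha

theorem Np.comm_of_eq (h : Np G α β) (ha : Mn G α) (hb : Mn G β) (e : α * β - β * α = 0) :
    Comm (EG G α) (EG G β) := by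
  refine comm_EG_iff.2 fun a ha' b hb' => by_contra fun hne => ?_
  have ha0 : a ≠ 0 := by rintro rfl; simp at hne
  have hb0 : b ≠ 0 := by rintro rfl; simp at hne
  exact (h.of_eS ha hb ha' ha0 hb' hb0).ne_of_eS (ha.of_eS ha' ha0).1 (hb.of_eS hb' hb0).1
    (sub_ne_zero.2 hne) (ha.eS_eq ha' ha0 ▸ ha.mem_eS) ha.ne (hb.eS_eq hb' hb0 ▸ hb.mem_eS) hb.ne e

/-! ### No unipotent normal subgroups -/

/-- `G` has no non-trivial unipotent normal subgroup. -/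
def NU (G : Subgroup GLM) : Prop :=
  ∀ R ≤ G, (∀ g ∈ G, conjBy R g = R) → IsUnipotentOn R → R = ⊥

omit [FiniteDimensional k M] in
theorem nu_of_irr (h : IsIrreducibleFor (G ⊔ Subgroup.centralizer (G : Set GLM))) : NU G := by
  intro R hR hn hu
  obtain ⟨v, hv, hv'⟩ := unip_exists_fixed hu h.1
  have h1 : ∀ g ∈ G ⊔ Subgroup.centralizer (G : Set GLM), conjBy R g = R :=
    conjBy_eq_of_mem_sup hn fun g hg => conjBy_of_comm fun a ha => (hg a (hR ha)).symm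
  have hmem : ∀ w, w ∈ fixedSubmodule R ↔ ∀ g ∈ R, (g : EM) w = w := fun w => by
    simp [fixedSubmodule, sub_eq_zero]
  refine (h.2 (fixedSubmodule R) (fun g hg w hw => (hmem _).2 fun x hx => ?_)).elim (fun e => ?_)
    fun e => ?_
  · have := (hmem _).1 hw _ (mem_conjBy.1 ((h1 g hg).symm ▸ hx))
    rw [← Module.End.mul_apply, ← Units.val_mul, show x * g = g * (g⁻¹ * x * g) by group, Units.val_mul,
      Module.End.mul_apply, this]
  · exact absurd (e ▸ (hmem v).2 hv' : v ∈ (⊥ : Submodule k M)) hv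
  · exact (Subgroup.eq_bot_iff_forall _).2 fun x hx => Units.ext (LinearMap.ext fun w =>
      (hmem w).1 (e ▸ Submodule.mem_top) x hx)

omit [FiniteDimensional k M] in
theorem unip_conj {R : Subgroup GLM} (hu : IsUnipotentOn R) (g : GLM) : IsUnipotentOn (conjBy R g) := by
  obtain ⟨n, hn⟩ := unip_def.1 hu
  refine unip_def.2 ⟨n, fun l hl e => ?_⟩
  have h1 := congrArg (cj g) (hn (l.map fun x => g⁻¹ * x * g) (fun x hx => by
    obtain ⟨y, hy, rfl⟩ := List.mem_map.1 hx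
    exact mem_conjBy.1 (hl y hy)) (by simpa using e))
  rw [map_list_prod, map_zero, List.map_map, List.map_map] at h1
  rw [← h1]
  refine congrArg List.prod (List.map_congr_left fun x _ => ?_)
  rw [Function.comp_apply, Function.comp_apply, ← cj_coe]
  congr 2
  group

theorem NU.of_normal (h : NU G) {H : Subgroup GLM} (hH : H ≤ G) (hn : ∀ g ∈ G, conjBy H g = H) :
    NU H := by
  intro R hR hR' hu
  have h1 : ∀ g ∈ G, ∀ x ∈ H, conjBy (conjBy R g) x = conjBy R g := fun g hg x hx => by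
    rw [conjBy_conjBy, show x * g = g * (g⁻¹ * x * g) by group,
      conjBy_mul_of_right _ (hR' _ (mem_conjBy.1 ((hn g hg).symm ▸ hx)))]
  have h2 : ∀ g ∈ G, conjBy R g ≤ H := fun g hg => hn g hg ▸ conjBy_le_conjBy_iff.2 hR
  have h3 := unip_conj hu
  have := h (⨆ A ∈ {A | ∃ g ∈ G, A = conjBy R g}, A) (iSup₂_le ?_) (fun g hg => ?_) (unip_iSup ?_ ?_)
  · exact le_bot_iff.1 (this ▸ le_gen ⟨1, G.one_mem, (conjBy_one R).symm⟩)
  · rintro _ ⟨g, hg, rfl⟩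
    exact (h2 g hg).trans hH
  · refine conjBy_eq_of_le (E := G) (fun e he => ?_) hg
    rw [conjBy_iSup]
    refine iSup_le fun A => ?_
    rw [conjBy_iSup]
    refine iSup_le ?_
    rintro ⟨g, hg, rfl⟩
    exact le_gen ⟨_, G.mul_mem he hg, conjBy_conjBy _ _ _⟩
  · rintro _ ⟨g, hg, rfl⟩ _ ⟨g', hg', rfl⟩ b hb
    exact ⟨g, hg, h1 g hg b (h2 g' hg' hb)⟩
  · rintro _ ⟨g, hg, rfl⟩ _ ⟨g', hg', rfl⟩
    exact unip_sup_of_norm (h3 g) (h3 g') fun b hb => h1 g hg b (h2 g' hg' hb)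

theorem conjBy_gen_of {W : Set (Subgroup GLM)} (h : ∀ A ∈ W, ∀ g ∈ G, conjBy A g ∈ W) {g : GLM}
    (hg : g ∈ G) : conjBy (⨆ A ∈ W, A) g = ⨆ A ∈ W, A := by
  refine conjBy_eq_of_le (E := G) (fun e he => ?_) hg
  rw [conjBy_iSup]
  refine iSup_le fun A => ?_
  rw [conjBy_iSup]
  exact iSup_le fun hA => le_gen (h A hA e he)

theorem NU.exists_opp (h : NU G) (h2 : (2 : k) ≠ 0) (h3 : Nat.card k ≠ 3) (ha : Mn G α) :
    ∃ β, Mn G β ∧ Opp α β := by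
  by_contra hcon
  have hc : ∀ A ∈ {A | ∃ α, Mn G α ∧ A = EG G α ∧ ¬ ∃ β, Mn G β ∧ Opp α β}, ∀ g ∈ G,
      conjBy A g ∈ {A | ∃ α, Mn G α ∧ A = EG G α ∧ ¬ ∃ β, Mn G β ∧ Opp α β} := by
    rintro _ ⟨a, ha, rfl, hn⟩ g hg
    refine ⟨_, ha.cj hg, conjBy_EG hg, fun ⟨b, hb, hab⟩ => hn ⟨_, hb.cj (G.inv_mem hg),
      opp_of_ne h2 h3 ha (hb.cj (G.inv_mem hg)) fun e => hab.ne (ha.cj hg).ne ?_⟩⟩
    rw [← cj_cj_inv g b, ← map_mul, ← map_mul, e, map_zero]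
  have := h _ (iSup₂_le ?_) (fun g hg => conjBy_gen_of hc hg) (unip_iSup ?_ ?_)
  · exact ha.EG_ne_bot (le_bot_iff.1 (this ▸ le_gen ⟨α, ha, rfl, hcon⟩))
  · rintro _ ⟨a, -, rfl, -⟩
    exact EG_le
  · rintro A hA _ ⟨a, -, rfl, -⟩ b hb
    exact hc A hA b (EG_le hb)
  · rintro _ ⟨a, ha, rfl, hn⟩ _ ⟨b, hb, rfl, -⟩
    exact ((opp_or_np h2 h3 ha hb).resolve_left fun e => hn ⟨b, hb, e⟩).unip ha.toQF hb.toQF

theorem Opp.finrank_eq (h2 : (2 : k) ≠ 0) (h3 : Nat.card k ≠ 3) (h : Opp α β) (ha : Mn G α)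
    (hb : Mn G β) : finrank k (eS G α) = finrank k (eS G β) := by
  obtain ⟨a, ha', ha0, e1, e2⟩ := h.partner h2 h3 ha hb hb.mem_eS hb.ne
  rw [← ha.eS_eq ha' ha0, ← finrank_eS_cj hb.qu_mem, partner_eq ha'.1.sq hb.sq e1 e2,
    finrank_eS_cj ha'.1.qu_mem, hb.eS_eq ((eS G β).neg_mem hb.mem_eS) (neg_ne_zero.2 hb.ne)]

theorem Np.finrank_eq (hG : NU G) (h2 : (2 : k) ≠ 0) (h3 : Nat.card k ≠ 3) (h : Np G α β) (ha : Mn G α)
    (hb : Mn G β) (hne : α * β - β * α ≠ 0) :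
    finrank k (eS G α) = finrank k (eS G (α * β - β * α)) := by
  obtain ⟨d, hd, hdo⟩ := hG.exists_opp h2 h3 (h.mn ha hb hne)
  rw [hdo.finrank_eq h2 h3 (h.mn ha hb hne) hd]
  by_cases e : d * α * d = 0
  · have e1 : cj (qu β hb.sq) α = α - (α * β - β * α) := by
      rw [cj_qu, ← sub_zero (α - _), ← h.2 _ hb.mem_eS _ ha.mem_eS _ hb.mem_eS]; noncomm_ring
    rw [← finrank_eS_cj hb.qu_mem, (opp_of_ne h2 h3 hd (ha.cj hb.qu_mem) fun e2 => ?_).finrank_eq h2 h3 hd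
      (ha.cj hb.qu_mem)]
    rw [e1, mul_sub, sub_mul, e, zero_sub, neg_eq_zero] at e2
    exact hdo.symm.ne hd.ne e2
  · exact ((opp_of_ne h2 h3 hd ha e).finrank_eq h2 h3 hd ha).symm

theorem Np.surj (hG : NU G) (h2 : (2 : k) ≠ 0) (h3 : Nat.card k ≠ 3) (h : Np G α β) (ha : Mn G α)
    (hb : Mn G β) (hne : α * β - β * α ≠ 0) (hb' : b ∈ eS G β) (hb0 : b ≠ 0) {c : EM}
    (hc : c ∈ eS G (α * β - β * α)) : ∃ a ∈ eS G α, c = a * b - b * a := by
  let f : eS G α →ₗ[k] eS G (α * β - β * α) :=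
    (LinearMap.mulRight k b - LinearMap.mulLeft k b).restrict fun a ha' => h.mem_eS ha hb hne ha' hb'
  have hf : Function.Injective f := (injective_iff_map_eq_zero f).2 fun a e => Subtype.ext
    (by_contra fun h0 => h.ne_of_eS ha hb hne a.2 h0 hb' hb0 (congrArg Subtype.val e))
  obtain ⟨a, e⟩ := (LinearMap.injective_iff_surjective_of_finrank_eq_finrank
    (h.finrank_eq hG h2 h3 ha hb hne)).1 hf ⟨c, hc⟩
  exact ⟨a, a.2, (congrArg Subtype.val e).symm⟩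

theorem Np.cc (hG : NU G) (h2 : (2 : k) ≠ 0) (h3 : Nat.card k ≠ 3) (h : Np G α β) (ha : Mn G α)
    (hb : Mn G β) (hne : α * β - β * α ≠ 0) : Cc (EG G α) (EG G β) (EG G (α * β - β * α)) := by
  have hA : ∀ y ∈ EG G β, y ≠ 1 → ∀ c ∈ EG G (α * β - β * α), ∃ x ∈ EG G α, c = ⁅x, y⁆ := by
    intro y hy hy1 z hz
    obtain ⟨b, hb', rfl⟩ := mem_EG'.1 hy
    obtain ⟨c, hc, rfl⟩ := mem_EG'.1 hz
    obtain ⟨a, ha', rfl⟩ := h.surj hG h2 h3 ha hb hne hb' (mt qu_eq_one.2 hy1) hc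
    exact ⟨_, qu_mem_EG ha', (comm_qu _ _ (h.1 _ ha' _ hb' _ ha') (h.2 _ hb' _ ha' _ hb')).symm⟩
  refine ⟨le_antisymm (Subgroup.commutator_le.2 fun x hx y hy => ?_) fun z hz => ?_,
    (h.mn ha hb hne).EG_ne_bot, h.comm_left ha hb, h.comm_right ha hb, fun x hx hx1 z hz => ?_, hA⟩
  · obtain ⟨a, ha', rfl⟩ := mem_EG'.1 hx
    obtain ⟨b, hb', rfl⟩ := mem_EG'.1 hy
    rw [comm_qu _ _ (h.1 _ ha' _ hb' _ ha') (h.2 _ hb' _ ha' _ hb')]
    exact qu_mem_EG (h.mem_eS ha hb hne ha' hb')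
  · obtain ⟨x, hx, rfl⟩ := hA _ (qu_mem_EG hb.mem_eS) (mt qu_eq_one.1 hb.ne) z hz
    exact Subgroup.commutator_mem_commutator hx (qu_mem_EG hb.mem_eS)
  · obtain ⟨a, ha', rfl⟩ := mem_EG'.1 hx
    obtain ⟨c, hc, rfl⟩ := mem_EG'.1 hz
    obtain ⟨b, hb', e⟩ := h.symm.surj hG h2 h3 hb ha (by rwa [← neg_sub, neg_ne_zero]) ha'
      (mt qu_eq_one.2 hx1) (c := -c) (by
        rw [← neg_sub, eS_congr (LinearMap.ker_neg _) (LinearMap.range_neg _)]
        exact Submodule.neg_mem _ hc)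
    obtain rfl : c = a * b - b * a := by rw [← neg_neg c, e, neg_sub]
    exact ⟨_, qu_mem_EG hb', (comm_qu _ _ (h.1 _ ha' _ hb' _ ha') (h.2 _ hb' _ ha' _ hb')).symm⟩

theorem pair_cases (hG : NU G) (h2 : (2 : k) ≠ 0) (h3 : Nat.card k ≠ 3) (ha : Mn G α) (hb : Mn G β) :
    Opp α β ∨ (Np G α β ∧ (Comm (EG G α) (EG G β) ∨ (α * β - β * α ≠ 0 ∧ Mn G (α * β - β * α) ∧
      Cc (EG G α) (EG G β) (EG G (α * β - β * α))))) :=
  (opp_or_np h2 h3 ha hb).imp_right fun h => ⟨h, (eq_or_ne (α * β - β * α) 0).imp (h.comm_of_eq ha hb)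
    fun e => ⟨e, h.mn ha hb e, h.cc hG h2 h3 ha hb e⟩⟩

theorem opp_of_r1 (hG : NU G) (h2 : (2 : k) ≠ 0) (h3 : Nat.card k ≠ 3) (ha : Mn G α) (hb : Mn G β)
    (h : IsRankOnePair (EG G α) (EG G β)) : Opp α β := by
  rcases pair_cases hG h2 h3 ha hb with e | ⟨-, e | ⟨-, -, e⟩⟩
  · exact e
  · exact absurd e (r1_not_comm h)
  · exact absurd h (e.not_r1 comm_EG)

theorem conj_Sig {A : Subgroup GLM} (hA : A ∈ quadraticRootSubgroups G) {g : GLM} (hg : g ∈ G) :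
    conjBy A g ∈ quadraticRootSubgroups G := by
  obtain ⟨a, ha, rfl⟩ := mem_Sig.1 hA
  rw [conjBy_EG hg]
  exact (ha.cj hg).mem_Sig

theorem Sig_le {A : Subgroup GLM} (hA : A ∈ quadraticRootSubgroups G) : A ≤ G := by
  obtain ⟨a, -, rfl⟩ := mem_Sig.1 hA
  exact EG_le

theorem NU.rs (hG : NU G) (h2 : (2 : k) ≠ 0) (h3 : Nat.card k ≠ 3) : RS (quadraticRootSubgroups G) := by
  refine ⟨fun A hA => ?_, fun A hA => ?_, fun A hA B hB b hb => conj_Sig hA (Sig_le hB hb),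
    fun A hA B hB => ?_⟩
  · obtain ⟨a, -, rfl⟩ := mem_Sig.1 hA
    exact comm_EG
  · obtain ⟨a, ha, rfl⟩ := mem_Sig.1 hA
    exact ha.EG_ne_bot
  · obtain ⟨a, ha, rfl⟩ := mem_Sig.1 hA
    obtain ⟨b, hb, rfl⟩ := mem_Sig.1 hB
    rcases pair_cases hG h2 h3 ha hb with e | ⟨-, e | ⟨-, e1, e⟩⟩
    · exact Or.inr (Or.inl (e.r1 h2 h3 ha hb))
    · exact Or.inl e
    · exact Or.inr (Or.inr ⟨_, e1.mem_Sig, e⟩)

theorem NU.ni (hG : NU G) (h2 : (2 : k) ≠ 0) (h3 : Nat.card k ≠ 3) {A : Subgroup GLM}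
    (hA : A ∈ quadraticRootSubgroups G) : NI (quadraticRootSubgroups G) A := by
  obtain ⟨a, ha, rfl⟩ := mem_Sig.1 hA
  obtain ⟨b, hb, e⟩ := hG.exists_opp h2 h3 ha
  exact ⟨_, hb.mem_Sig, e.r1 h2 h3 ha hb⟩

omit [FiniteDimensional k M] in
theorem irr_sup (h : IsIrreducibleFor G) (H : Subgroup GLM) : IsIrreducibleFor (G ⊔ H) :=
  ⟨h.1, fun W hW => h.2 W fun g hg => hW g (Subgroup.mem_sup_left hg)⟩

omit [FiniteDimensional k M] in
theorem nu_of_pair (h : IsQuadraticPair G) : NU G := nu_of_irr (irr_sup h.1 _)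

theorem Np.core (hG : NU G) (h2 : (2 : k) ≠ 0) (h3 : Nat.card k ≠ 3) (h : Np G α β) (ha : Mn G α)
    (hb : Mn G β) (hne : α * β - β * α ≠ 0) :
    ((EG G α ⊔ EG G β : Subgroup GLM) : Set GLM) ⊆ quadraticUnipotentCore G ⁅EG G α, EG G β⁆ := by
  intro g hg
  have hd := h.mn ha hb hne
  have h1 : EG G β ≤ st3 (range_le_ker_of_mul hd.sq) := by
    have := h.symm.le_st3 hb ha (by rwa [← neg_sub, neg_ne_zero])
    convert this using 2
    · rw [← LinearMap.ker_neg, neg_sub]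
    · rw [← LinearMap.range_neg, neg_sub]
  rw [(h.cc hG h2 h3 ha hb hne).eq]
  refine ⟨sup_le EG_le EG_le hg, conjBy_eq_self_iff.1
    (((h.comm_left ha hb).sup_right (h.comm_right ha hb)).symm.conjBy_eq hg), ?_⟩
  rw [fixedSubmodule_EG hd.toQF, commutatorSubmodule_EG hd.toQF]
  exact mem_st3 (sup_le (h.le_st3 ha hb hne) h1 hg)

end CfsgLib.RootSub
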