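import Cfsg.Agent.Lib.RootSub.QuadPair2

/-! Opposite pairs and the global structure of a quadratic pair. -/

set_option autoImplicit false

namespace CfsgLib.RootSub

open Cfsg CfsgLib.SL2 Matrix MatrixGroups Module Polynomial
open scoped commutatorElement

section Abstract

variable {k : Type*} [Field k] {𝒜 : Type*} [Ring 𝒜] [Algebra k[X] 𝒜] {α β : 𝒜} {𝓜 : Submonoid 𝒜}

theorem divX_eq {p q : k[X]} (e : p = X * q) : p.divX = q := by
  subst e
  ext n
  rw [coeff_divX, coeff_X_mul]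

theorem QCtx.exists_hom (h : QCtx k α β 𝓜) : ∃ Ψ : h.Gam →* 𝒜, (∀ g, Ψ g ∈ 𝓜) ∧
    ∀ (g : h.Gam) (a d b c : k[X]), g.1 0 0 = 1 + X * a → g.1 1 1 = 1 + X * d → g.1 1 0 = X * c →
      g.1 0 1 = b → Ψ g = el α β a d b c := by
  have key : ∀ (g : SL(2, k[X])) (a d b c : k[X]), g 0 0 = 1 + X * a → g 1 1 = 1 + X * d →
      g 1 0 = X * c → g 0 1 = b →
      el α β (g 0 0 - 1).divX (g 1 1 - 1).divX (g 0 1) (g 1 0).divX = el α β a d b c := by
    intro g a d b c e1 e2 e3 e4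
    rw [divX_eq (sub_eq_iff_eq_add'.2 e1), divX_eq (sub_eq_iff_eq_add'.2 e2), divX_eq e3, e4]
  refine ⟨⟨⟨fun g => el α β (g.1 0 0 - 1).divX (g.1 1 1 - 1).divX (g.1 0 1) (g.1 1 0).divX, ?_⟩, ?_⟩,
    fun g => ?_, fun g => key g.1⟩
  · rw [key _ 0 0 0 0 (by simp [one_00]) (by simp [one_11]) (by simp [one_10]) (by simp [one_01])]
    simp [el]
  · rintro ⟨g, a, d, c, e1, e2, e3, -⟩ ⟨g', a', d', c', e1', e2', e3', -⟩
    simp only [key g _ _ _ _ e1 e2 e3 rfl, key g' _ _ _ _ e1' e2' e3' rfl, h.el_mul]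
    refine key (g * g') _ _ _ _ ?_ ?_ ?_ ?_ <;>
      simp only [mul_ap, e1, e2, e3, e1', e2', e3'] <;> ring
  · obtain ⟨g, a, d, c, e1, e2, e3, e4⟩ := g
    rw [← key g _ _ _ _ e1 e2 e3 rfl] at e4
    exact e4

theorem QCtx.el_eq_one (h : QCtx k α β 𝓜) {m : k[X]} (hm : ∀ p, p • α = 0 ↔ m ∣ p)
    (hm' : ∀ p, m ∣ p → p • β = 0) (hX : IsCoprime m X) {a d b c : k[X]} :
    el α β a d b c = 1 ↔ m ∣ a ∧ m ∣ d ∧ m ∣ b ∧ m ∣ c := by
  have h1 : ∀ z : 𝒜, z * α * α = 0 := fun z => by rw [mul_assoc, h.aa, mul_zero]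
  have h2 : ∀ z : 𝒜, z * β * β = 0 := fun z => by rw [mul_assoc, h.bb, mul_zero]
  have h3 : ∀ z : 𝒜, z * α * β * α = (X : k[X]) • (z * α) := fun z => by
    rw [mul_assoc z, mul_assoc z, h.aba, mul_smul_comm]
  constructor
  · intro e
    have e0 : a • (α * β) + d • (β * α) + b • α + c • β = 0 := by
      rw [← sub_eq_zero.2 e, el]; abel
    have e1 := congrArg (fun z => α * z * α) e0
    have e2 := congrArg (fun z => α * β * z * α) e0
    have e3 := congrArg (fun z => α * z * (β * α)) e0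
    have e4 := congrArg (fun z => α * β * z * (β * α)) e0
    simp only [mul_add, add_mul, smul_mul_assoc, mul_smul_comm, ← mul_assoc, h.aa, h.aba, h1, h2, h3,
      mul_zero, zero_mul, smul_zero, add_zero, zero_add, smul_smul] at e1 e2 e3 e4
    exact ⟨hX.dvd_of_dvd_mul_right (hX.dvd_of_dvd_mul_right (by simpa [mul_assoc] using (hm _).1 e2)),
      hX.dvd_of_dvd_mul_right (hX.dvd_of_dvd_mul_right (by simpa [mul_assoc] using (hm _).1 e3)),
      hX.dvd_of_dvd_mul_right (hX.dvd_of_dvd_mul_right (by simpa [mul_assoc] using (hm _).1 e4)),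
      hX.dvd_of_dvd_mul_right ((hm _).1 e1)⟩
  · rintro ⟨e1, e2, e3, e4⟩
    rw [el, ← smul_mul_assoc, (hm _).2 e1, ← smul_mul_assoc, hm' _ e2, (hm _).2 e3, hm' _ e4]
    simp

end Abstract

variable {k : Type*} [Field k] {M : Type*} [AddCommGroup M] [Module k M]

local notation "GLM" => LinearMap.GeneralLinearGroup k M
local notation "EM" => M →ₗ[k] M

variable {G : Subgroup (LinearMap.GeneralLinearGroup k M)} {α β η a b : M →ₗ[k] M}

theorem Mn.three_lt_card (h2 : (2 : k) ≠ 0) (h3 : Nat.card k ≠ 3) (ha : Mn G α) :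
    3 < ENat.card (EG G α) := by
  refine (RootSub.three_lt_card h2 h3).trans_le (ENat.card_le_card_of_injective
    (f := fun t => ⟨_, qu_mem_EG ((eS G α).smul_mem t ha.mem_eS)⟩) fun s t e => ?_)
  have := congrArg (fun x : EG G α => ((x : GLM) : EM)) e
  exact smul_left_injective k ha.ne (add_left_cancel this)

/-- The homomorphism from `SL₂(k)` attached to a pair with `a b a = a`, `b a b = b`. -/
def slHom (ha : a * a = 0) (hb : b * b = 0) (e1 : a * b * a = a) (e2 : b * a * b = b) :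
    SL(2, k) →* EM where
  toFun g := 1 - (a * b + b * a) + g 0 0 • (a * b) + g 0 1 • a + g 1 0 • b + g 1 1 • (b * a)
  map_one' := by simp [one_00, one_01, one_10, one_11]; abel
  map_mul' g g' := by
    have h1 : ∀ z : EM, z * a * a = 0 := fun z => by rw [mul_assoc, ha, mul_zero]
    have h2 : ∀ z : EM, z * b * b = 0 := fun z => by rw [mul_assoc, hb, mul_zero]
    simp only [mul_ap, mul_add, add_mul, mul_sub, sub_mul, smul_mul_assoc, mul_smul_comm, ← mul_assoc, ha,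
      hb, e1, e2, h1, h2, one_mul, mul_one, zero_mul, smul_zero]
    module

theorem psl2_of_partner (ha : QF G α) (hb : QF G β) (ha' : a ∈ eS G α) (hb' : b ∈ eS G β) (h0 : a ≠ 0)
    (e1 : a * b * a = a) (e2 : b * a * b = b) :
    ∃ A₀ B₀ : Subgroup GLM, A₀ ≤ EG G α ∧ B₀ ≤ EG G β ∧ IsPSL2PairOver k A₀ B₀ := by
  have hu : ∀ t, ((slHom ha'.1.sq hb'.1.sq e1 e2).toHomUnits (uu t) : EM) - 1 = t • a := fun t => by
    simp [slHom]; abel
  have hl : ∀ t, ((slHom ha'.1.sq hb'.1.sq e1 e2).toHomUnits (ll t) : EM) - 1 = t • b := fun t => by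
    simp [slHom]; abel
  refine ⟨_, _, ?_, ?_, psl2_of_hom (slHom ha'.1.sq hb'.1.sq e1 e2).toHomUnits fun e => h0 ?_⟩
  · rintro _ ⟨g, hg, rfl⟩
    obtain ⟨t, rfl⟩ := mem_upper_iff.1 hg
    rw [mem_EG, hu]; exact Submodule.smul_mem _ _ ha'
  · rintro _ ⟨g, hg, rfl⟩
    obtain ⟨t, rfl⟩ := mem_lower_iff.1 hg
    rw [mem_EG, hl]; exact Submodule.smul_mem _ _ hb'
  · obtain ⟨g, hg, e'⟩ := e.le ⟨_, uu_mem 1, rfl⟩
    obtain ⟨t, rfl⟩ := mem_lower_iff.1 hg
    have := hu 1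
    rw [← e', hl, one_smul] at this
    rw [← e1, ← this]
    simp [hb'.1.sq]

theorem eps_idem (ha : a * a = 0) (hb : b * b = 0) (e1 : a * b * a = a) (e2 : b * a * b = b) :
    (a * b + b * a) * (a * b + b * a) = a * b + b * a := by
  calc _ = a * b * a * b + a * (b * b) * a + b * (a * a) * b + b * a * b * a := by noncomm_ring
    _ = _ := by rw [ha, hb, e1, e2]; simp

theorem weyl_sq (ha : a * a = 0) (hb : b * b = 0) (e1 : a * b * a = a) (e2 : b * a * b = b) :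
    ((qu a ha * (qu b hb)⁻¹ * qu a ha * (qu a ha * (qu b hb)⁻¹ * qu a ha) : GLM) : EM) =
      1 - 2 * (a * b + b * a) := by
  have h1 : ∀ z : EM, z * a * a = 0 := fun z => by rw [mul_assoc, ha, mul_zero]
  have h2 : ∀ z : EM, z * b * b = 0 := fun z => by rw [mul_assoc, hb, mul_zero]
  simp only [Units.val_mul, qu_val, qu_inv_val, mul_add, add_mul, mul_sub, sub_mul, ← mul_assoc, ha,
      hb, e1, e2, h1, h2, one_mul, mul_one, zero_mul, two_mul]
  abel

variable [FiniteDimensional k M]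

theorem Opp.psl2 (h2 : (2 : k) ≠ 0) (h3 : Nat.card k ≠ 3) (h : Opp α β) (ha : Mn G α) (hb : Mn G β) :
    ∃ A₀ B₀ : Subgroup GLM, A₀ ≤ EG G α ∧ B₀ ≤ EG G β ∧ IsPSL2PairOver k A₀ B₀ := by
  obtain ⟨a, ha', ha0, e1, e2⟩ := h.partner h2 h3 ha hb hb.mem_eS hb.ne
  exact psl2_of_partner ha.toQF hb.toQF ha' hb.mem_eS ha0 e1 e2

theorem Opp.perfect (h2 : (2 : k) ≠ 0) (h3 : Nat.card k ≠ 3) (h : Opp α β) (ha : Mn G α) (hb : Mn G β) :
    ⁅EG G α ⊔ EG G β, EG G α ⊔ EG G β⁆ = EG G α ⊔ EG G β :=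
  sp_perfect (h.sp h2 h3 ha hb) comm_EG (ha.three_lt_card h2 h3)

theorem Opp.central (h2 : (2 : k) ≠ 0) (h3 : Nat.card k ≠ 3) (h : Opp α β) (ha : Mn G α) (hb : Mn G β) :
    ∃ ε : EM, ε * ε = ε ∧ ε ≠ 0 ∧ (∃ i ∈ EG G α ⊔ EG G β, (i : EM) = 1 - 2 * ε) ∧
      (∀ x ∈ EG G α ⊔ EG G β, ε * ((x : EM) - 1) = (x : EM) - 1 ∧ ((x : EM) - 1) * ε = (x : EM) - 1) ∧
      fixedSubmodule (EG G α ⊔ EG G β) = LinearMap.ker ε ∧
      commutatorSubmodule (EG G α ⊔ EG G β) = LinearMap.range ε := by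
  obtain ⟨a, ha', ha0, e1, e2⟩ := h.partner h2 h3 ha hb hb.mem_eS hb.ne
  have hx := Subgroup.mem_sup_left (T := EG G β) (qu_mem_EG ha')
  have hy := Subgroup.mem_sup_right (S := EG G α) (qu_mem_EG hb.mem_eS)
  have key : ∀ {a b c : EM}, c ∈ eS G a → a * a = 0 → a * b * a = a →
      (a * b + b * a) * c = c ∧ c * (a * b + b * a) = c := fun {a b c} hc h1 h2 => by
    constructor
    · have := eS_mul_left hc (x := a * b + b * a - 1) (by rw [sub_mul, gam_mul h1, h2]; simp)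
      rwa [sub_mul, one_mul, sub_eq_zero] at this
    · have := eS_mul_right hc (x := a * b + b * a - 1) (by
        rw [mul_sub, mul_add, ← mul_assoc, ← mul_assoc, h1, h2]; simp)
      rwa [mul_sub, mul_one, sub_eq_zero] at this
  have h4 : ∀ x ∈ EG G α ⊔ EG G β, (a * β + β * a) * ((x : EM) - 1) = (x : EM) - 1 ∧
      ((x : EM) - 1) * (a * β + β * a) = (x : EM) - 1 := by
    refine sup_induction (fun x hx => key (ha.eS_eq ha' ha0 ▸ hx) ha'.1.sq e1)
      (fun x hx => add_comm (β * a) _ ▸ key hx hb.sq e2) fun x _ y _ hx hy => ?_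
    rw [show ((x * y : GLM) : EM) - 1 = ((x : EM) - 1) * ((y : EM) - 1) + ((x : EM) - 1) + ((y : EM) - 1) by
      rw [Units.val_mul]; noncomm_ring]
    exact ⟨by rw [mul_add _ _ ((y : EM) - 1), mul_add _ _ ((x : EM) - 1), ← mul_assoc, hx.1, hy.1],
      by rw [add_mul _ ((y : EM) - 1), add_mul _ ((x : EM) - 1), mul_assoc, hx.2, hy.2]⟩
  refine ⟨a * β + β * a, eps_idem ha'.1.sq hb.sq e1 e2, fun e => ha0 ?_, ⟨_, ?_,
    weyl_sq ha'.1.sq hb.sq e1 e2⟩, h4, le_antisymm (fun v hv => ?_) (le_iInf₂ fun x hx => ?_),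
    le_antisymm (iSup₂_le fun x hx => ?_) ?_⟩
  · rw [← e1, ← gam_mul ha'.1.sq, e, zero_mul]
  · have := Subgroup.mul_mem _ (Subgroup.mul_mem _ hx (Subgroup.inv_mem _ hy)) hx
    exact Subgroup.mul_mem _ this this
  · have h5 := (iInf₂_le _ hx : fixedSubmodule _ ≤ _) hv
    have h6 := (iInf₂_le _ hy : fixedSubmodule _ ≤ _) hv
    rw [qu_val, add_sub_cancel_left, LinearMap.mem_ker] at h5 h6
    change a (β v) + β (a v) = 0
    simp [h5, h6]
  · rw [← (h4 x hx).2]; exact LinearMap.ker_le_ker_comp _ _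
  · rw [← (h4 x hx).1]; exact LinearMap.range_comp_le_range _ _
  · rintro _ ⟨v, rfl⟩
    refine Submodule.add_mem _ ((le_iSup₂_of_le _ hx le_rfl : _ ≤ commutatorSubmodule _) ⟨β v, ?_⟩)
      ((le_iSup₂_of_le _ hy le_rfl : _ ≤ commutatorSubmodule _) ⟨a v, ?_⟩) <;> simp

theorem Opp.not_unip (h2 : (2 : k) ≠ 0) (h3 : Nat.card k ≠ 3) (h : Opp α β) (ha : Mn G α)
    (hb : Mn G β) : ¬ IsUnipotentOn (EG G α ⊔ EG G β) := by
  intro hu
  obtain ⟨F, hF, n, h0, hn, hle⟩ := unip_iff_flag.1 hu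
  have key : ∀ i, EG G α ⊔ EG G β ≤ flagGrp F hF (i + 1) := fun i => by
    induction i with
    | zero => exact hle
    | succ i ih =>
      rw [← h.perfect h2 h3 ha hb]
      exact Subgroup.commutator_le.2 fun x hx y hy => flagGrp_comm (ih hx) (hle hy)
  exact ha.EG_ne_bot (le_bot_iff.1 (le_sup_left.trans ((key n).trans
    ((flagGrp_anti n.le_succ).trans (flagGrp_eq_bot hn h0).le))))

theorem exists_sl2_equiv (h2 : (2 : k) ≠ 0) (h3 : Nat.card k ≠ 3) (ha : Mn G α) (h : α * β * α ≠ 0)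
    {H : Subgroup GLM} (hH : H ≤ G) (ha' : QF H α) (hb' : QF H β) (hb : Mn G β) (h' : β * α * β ≠ 0)
    (hgen : ∀ K : Subgroup GLM, QF K α → QF K β → H ≤ K) :
    ∃ (m : k[X]) (_ : Fact (Irreducible m)), Nonempty (H ≃* SL(2, AdjoinRoot m)) := by
  obtain ⟨m, hm, hi, hX, -⟩ := ha.main h2 h3 hH ha' hb' h
  obtain ⟨m', hm', hi', -, -⟩ := hb.main h2 h3 hH hb' ha' h'
  have c1 : Commute α (α * β + β * α) := (gam_comm ha.sq hb.sq).symm
  have hc := hi.coprime_iff_not_dvd.2 hX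
  have hmm : m' ∣ m := by
    refine (hi.associated_of_dvd hi' (hc.dvd_of_dvd_mul_right ((hm _).1 ?_))).symm.dvd
    have := (hm' m').2 dvd_rfl
    rw [add_comm] at this
    rw [map_mul, aeval_X, mul_assoc, gam_mul ha.sq, ← mul_assoc, ← mul_assoc, ← (aeval_comm c1 m').eq,
      mul_assoc α, this, mul_zero, zero_mul]
  letI := cAlg (α * β + β * α)
  have hq := qctx ha' hb'
  obtain ⟨Ψ, hΨ, hΨ'⟩ := hq.exists_hom
  let Φ : hq.Gam →* GLM := ((Subalgebra.val _).toRingHom.toMonoidHom.comp Ψ).toHomUnits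
  have hΦ : ∀ g, (Φ g : EM) = Ψ g := fun g => rfl
  have hr : Φ.range = H := by
    refine le_antisymm (by rintro _ ⟨g, rfl⟩; exact coe_mem_mon.1 (hΨ g)) (hgen _ ⟨ha.sq, fun t => ?_⟩
      ⟨hb.sq, fun t => ?_⟩)
    · refine ⟨_, ⟨⟨_, hq.uu_mem (hq.hu t)⟩, rfl⟩, ?_⟩
      change (Φ _ : EM) = _
      rw [hΦ, hΨ' _ 0 0 (C t) 0 (by simp) (by simp) (by simp) (by simp)]
      simp [el, cAlg_smul, ← Algebra.smul_def]
    · refine ⟨_, ⟨⟨_, hq.ll_mem t⟩, rfl⟩, ?_⟩
      change (Φ _ : EM) = _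
      rw [hΦ, hΨ' _ 0 0 0 (C t) (by simp) (by simp) (by simp) (by simp)]
      simp [el, cAlg_smul, ← Algebra.smul_def]
  have hs : Function.Surjective ((piF m).comp hq.Gam.subtype) := by
    rw [← MonoidHom.range_eq_top, MonoidHom.range_comp, Subgroup.range_subtype]
    exact hq.map_piF h2 h3 hi hX
  have hk : Φ.ker = ((piF m).comp hq.Gam.subtype).ker := by
    ext ⟨g, hg⟩
    obtain ⟨a, d, c, e1, e2, e3, -⟩ := id hg
    rw [MonoidHom.mem_ker, Units.ext_iff, hΦ, hΨ' _ a d _ c e1 e2 e3 rfl, Units.val_one, ← OneMemClass.coe_one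
      (Subalgebra.centralizer k ({α * β + β * α} : Set EM)), Subtype.val_inj,
      hq.el_eq_one (m := m) (fun p => by rw [← hm, Subtype.ext_iff, cAlg_smul]; rfl)
      (fun p hp => Subtype.ext (by
        have := (hm' p).2 (hmm.trans hp)
        rw [add_comm] at this
        rw [cAlg_smul]; exact this)) hc]
    change _ ↔ g ∈ (piF m).ker
    have hd : ∀ p, m ∣ X * p ↔ m ∣ p := fun p => ⟨hc.dvd_of_dvd_mul_left, fun e => e.mul_left X⟩
    rw [mem_ker_piF, e1, e2, e3, add_sub_cancel_left, add_sub_cancel_left, hd, hd, hd]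
    tauto
  exact ⟨m, ⟨hi⟩, ⟨((MulEquiv.subgroupCongr hr).symm.trans (QuotientGroup.quotientKerEquivRange Φ).symm).trans
    ((QuotientGroup.quotientMulEquivOfEq hk).trans (QuotientGroup.quotientKerEquivOfSurjective _ hs))⟩⟩

/-! ### Quadratic elements of arbitrary rank -/

theorem NU.eq_zero (hG : NU G) (h2 : (2 : k) ≠ 0) (h3 : Nat.card k ≠ 3) (ha : Mn G α) (hb : QF G β)
    (hr : rk β ≤ rk α) (h : ∀ a, Mn G a → a * β * a = 0) : β = 0 := by
  by_contra h0
  obtain ⟨a, ha', e⟩ := hG.exists_opp h2 h3 (ha.of_le hb h0 hr)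
  exact e.symm.ne ha'.ne (h a ha')

theorem NU.lemC (hG : NU G) (h2 : (2 : k) ≠ 0) (h3 : Nat.card k ≠ 3) (hη : QF G η)
    (h : ∀ a, Mn G a → a * η * a = 0) (ha : Mn G α) : α * η = η * α := by
  have hc : ∀ x, (∀ a, Mn G a → a * x * a = 0) → ∀ g ∈ G, ∀ a, Mn G a → a * cj g x * a = 0 :=
    fun x hx g hg a ha => by
      rw [← cj_cj_inv g a, ← map_mul, ← map_mul, hx _ (ha.cj (G.inv_mem hg)), map_zero]
  have h1 : ∀ a, Mn G a → a * (α * η - η * α) * a = 0 := fun a ha' => by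
    have := hc η h _ ha.qu_mem a ha'
    rw [cj_qu, show (1 + α) * η * (1 - α) = η + (α * η - η * α) - α * η * α by noncomm_ring, h α ha,
      sub_zero, mul_add, add_mul, h a ha', zero_add] at this
    exact this
  have h4 : ∀ a, Mn G a → a * (η * α * η) * a = 0 := fun a ha' => by
    have := hc _ h1 _ hη.qu_mem a ha'
    rw [cj_qu, show (1 + η) * (α * η - η * α) * (1 - η) = (α * η - η * α) + (2 : k) • (η * α * η) -
      η * η * α - α * (η * η) + η * η * α * η - η * α * (η * η) by rw [two_smul]; noncomm_ring, hη.sq] at this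
    simp only [zero_mul, mul_zero, sub_zero, add_zero, mul_add, add_mul, h1 a ha', zero_add, mul_smul_comm,
      smul_mul_assoc] at this
    exact (smul_eq_zero.1 this).resolve_left h2
  have e1 : (η * α + α * η) * α = 0 := by rw [gam_mul' ha.sq, h α ha]
  have h5 : η * α * η = 0 := by
    have := nil_odd' h2 hη ha.toQF (j := 1) (by
      rw [pow_succ, pow_one, mul_assoc, gam_mul hη.sq, ← mul_assoc, ← mul_assoc,
        gam_comm hη.sq ha.sq, mul_assoc η, e1]
      simp) (by rw [pow_succ, mul_assoc, e1, mul_zero]) (by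
      rw [pow_one, mul_sub, ← mul_assoc, ← mul_assoc, e1, gam_mul hη.sq, mul_assoc, mul_assoc, ← mul_assoc α,
        h α ha]
      simp)
    rw [pow_one, gam_mul hη.sq] at this
    exact hG.eq_zero h2 h3 ha this ((rk_mul_le_left _ _).trans (rk_mul_le_right _ _)) h4
  exact sub_eq_zero.1 (hG.eq_zero h2 h3 ha (qf_comm ha.toQF hη (h α ha) h5)
    (rk_sub_le (by rwa [← mul_assoc])) h1)

omit [FiniteDimensional k M] in
theorem qf_split (ha : QF G a) (hη : QF G η) (e : a * η * a = a) :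
    QF G (η - η * a * η) ∧ QF G (η * a * η) := by
  have key : ∀ {a η : EM}, QF G a → QF G η → a * η * a = a → 1 + (η - η * a * η) ∈ mon G := by
    intro a η ha hη e
    have h1 : ∀ z : EM, z * a * a = 0 := fun z => by rw [mul_assoc, ha.sq, mul_zero]
    have h2 : ∀ z : EM, z * η * η = 0 := fun z => by rw [mul_assoc, hη.sq, mul_zero]
    have h3 : ∀ z : EM, z * a * η * a = z * a := fun z => by rw [mul_assoc z, mul_assoc z, e]
    convert (mon G).mul_mem ((mon G).mul_mem ((mon G).mul_mem hη.one_add ha.one_add) hη.neg.one_add)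
      ((mon G).mul_mem ((mon G).mul_mem ha.one_add hη.one_add) ha.neg.one_add) using 1
    simp only [mul_add, add_mul, mul_neg, neg_mul, ← mul_assoc, ha.sq, hη.sq, e, h1, h2, h3, one_mul,
      mul_one, zero_mul, mul_zero]
    abel
  have s1 : η * (η * a * η) = 0 := by rw [← mul_assoc, ← mul_assoc, hη.sq]; simp
  have s2 : η * a * η * η = 0 := by rw [mul_assoc, hη.sq]; simp
  have s3 : η * a * η * (η * a * η) = 0 := by rw [← mul_assoc, ← mul_assoc, s2]; simp
  have h0 : QF G (η - η * a * η) := by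
    refine ⟨by rw [mul_sub, sub_mul, sub_mul, hη.sq, s1, s2, s3]; simp, fun t => ?_⟩
    by_cases ht : t = 0
    · simpa [ht] using (mon G).one_mem
    have := key (ha.smul t⁻¹) (hη.smul t) (by simp [e, smul_smul, ht])
    simpa [smul_smul, ht, smul_sub] using this
  refine ⟨h0, ?_⟩
  have := hη.add h0.neg (by rw [mul_neg, mul_sub, hη.sq, s1]; simp) (by rw [neg_mul, sub_mul, hη.sq, s2]; simp)
  simpa using this

end CfsgLib.RootSub
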